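import Cfsg.Agent.Lib.SylowAb.OrthChar2
import Cfsg.Agent.Lib.Classical.OrthForms
import Cfsg.Agent.Lib.Fusion.SimplePSp
import Cfsg.Agent.Lib.Fusion.SimplePSU

/-!
# Classical groups in characteristic two: squares in the derived Sylow subgroup
-/

set_option autoImplicit false

namespace Cfsg.Agent.SylowAb.LieTwoClassical

open Matrix Cfsg

theorem sqDer_hom {G H : Type*} [Group G] [Group H] {P : Subgroup G} (h : SqDer P) (φ : G →* H) :
    SqDer (P.map φ) := by
  refine sqDer_closure (S := φ '' P) ?_ ?_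
  · rw [← MonoidHom.map_closure, Subgroup.closure_eq]
  · rintro _ ⟨x, hx, rfl⟩
    rw [← map_pow, ← Subgroup.map_commutator]
    exact Subgroup.mem_map_of_mem _ ((mem_commutator_iff P (⟨x, hx⟩ ^ 2)).1 (h ⟨x, hx⟩))

theorem sqDer_conj {G : Type*} [Group G] [Finite G] {P₀ : Sylow 2 G}
    (h : SqDer (P₀ : Subgroup G)) (P : Sylow 2 G) : SqDer (P : Subgroup G) :=
  have : Fact (Nat.Prime 2) := ⟨Nat.prime_two⟩
  sqDer_mulEquiv (P₀.equiv P) h

section PSL

variable {F : Type*} [Field F] [Fintype F] [CharP F 2] {n : ℕ}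

theorem transvection_invol {i j : Fin n} (hij : i ≠ j) (c : F) :
    Matrix.SpecialLinearGroup.transvection hij c * Matrix.SpecialLinearGroup.transvection hij c = 1 := by
  have : Fact (Nat.Prime 2) := ⟨Nat.prime_two⟩
  rw [← sq]
  exact Fusion.SimplePSL.pow_vmv (p := 2) (Matrix.SpecialLinearGroup.transvection_coe hij c)
    (by rw [Matrix.single_mul_single_of_ne (h := hij.symm)])

theorem unitri_eq : AutPSL.Roots.unitriSL (n := n) (F := F) = Subgroup.closure
    {g | ∃ (i j : Fin n) (h : i < j) (c : F), g = Matrix.SpecialLinearGroup.transvection h.ne c} :=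
  le_antisymm (Fusion.SimplePSL.unitri_le fun i j h c => Subgroup.subset_closure ⟨i, j, h, c, rfl⟩)
    ((Subgroup.closure_le _).2 (by
      rintro g ⟨i, j, h, c, rfl⟩; exact Fusion.SimplePSL.transvection_mem_unitri h c))

theorem sqDer_unitri : SqDer (AutPSL.Roots.unitriSL (n := n) (F := F)) :=
  sqDer_closure_invol unitri_eq (by rintro g ⟨i, j, h, c, rfl⟩; exact transvection_invol h.ne c)

theorem psl (hn : 1 ≤ n) (P : Sylow 2 (Matrix.ProjectiveSpecialLinearGroup (Fin n) F)) :
    SqDer (P : Subgroup (Matrix.ProjectiveSpecialLinearGroup (Fin n) F)) := by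
  have : Fact (Nat.Prime 2) := ⟨Nat.prime_two⟩
  obtain ⟨P₀, hP₀⟩ := AutPSL.Roots.exists_sylow_eq (F := F) (n := n) 2 hn
  refine sqDer_conj (P₀ := P₀) ?_ P
  rw [hP₀]
  exact sqDer_hom sqDer_unitri _

end PSL

section PSp

open Cfsg.Agent.AutPSp.SylowCentre Cfsg.Agent.Fusion.SympBlocks

variable {F : Type*} [Field F] [Fintype F] [CharP F 2] {m : ℕ}

local notation "Mm" => Matrix (Fin m) (Fin m) F
local notation "Sp" => Matrix.symplecticGroup (Fin m) F

theorem sqDer_upper : SqDer (upperSubgroup : Subgroup Sp) := by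
  refine sqDer_closure_invol (S := {g | (∃ (S : Mm) (h : S.IsSymm), g = symM S h) ∨
    ∃ (i j : Fin m) (h : i < j) (c : F),
      g = glS (Matrix.SpecialLinearGroup.transvection h.ne c)}) (le_antisymm ?_ ?_) ?_
  · intro A hA
    obtain ⟨S, hS, W, hW, rfl⟩ := exists_upper_decomp hA
    refine mul_mem (Subgroup.subset_closure (Or.inl ⟨S, hS, rfl⟩)) ?_
    exact Fusion.SimplePSL.unitri_le (T := (Subgroup.closure _).comap glS)
      (fun i j h c => Subgroup.subset_closure
        (Or.inr ⟨i, j, h, c, rfl⟩)) hW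
  · rw [Subgroup.closure_le]
    rintro _ (⟨S, h, rfl⟩ | ⟨i, j, h, c, rfl⟩)
    exacts [symM_mem S h, glS_mem (Fusion.SimplePSL.transvection_mem_unitri h c)]
  · rintro _ (⟨S, h, rfl⟩ | ⟨i, j, h, c, rfl⟩)
    · rw [symM_mul, ← symM_zero]
      exact symM_congr (by ext k l; exact CharTwo.add_self_eq_zero _)
    · rw [← map_mul, transvection_invol h.ne c, map_one]

theorem psp (hm : 1 ≤ m) (P : Sylow 2 (PSp m F)) : SqDer (P : Subgroup (PSp m F)) := by
  have : Fact (Nat.Prime 2) := ⟨Nat.prime_two⟩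
  obtain ⟨P₀, hP₀⟩ := Fusion.SimplePSp.exists_sylow_eq (F := F) (p := 2) hm
  refine sqDer_conj (P₀ := P₀) ?_ P
  rw [hP₀]
  exact sqDer_hom sqDer_upper _

end PSp

section PSU

open Cfsg.Agent.Classical Cfsg.Agent.Classical.Unitary Cfsg.Agent.Forms
  Cfsg.Agent.AutPSU.Basic Cfsg.Agent.AutPSU.Centre Cfsg.Agent.Fusion.UnitaryFlag

variable {F : Type*} [Field F] [Fintype F] [CharP F 2] {q n m : ℕ}

local notation "Vec" => (Fin n → F)
local notation "SUn" => Cfsg.SU n F q
local notation "H" => Cfsg.hermForm n F q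

variable (hF : Fintype.card F = q ^ 2)
include hF

omit [CharP F 2] in
theorem exists_frame (hn : 0 < n) :
    ∃ (m : ℕ) (e f : Fin m → Vec), Frame q e f := by
  classical
  let P : ℕ → Prop := fun k => ∃ e f : Fin k → Vec, (∀ i j, H (e i) (e j) = 0) ∧
    (∀ i j, H (f i) (f j) = 0) ∧ ∀ i j, H (e i) (f j) = if i = j then 1 else 0
  have hbound : ∀ k, P k → k ≤ n := by
    rintro k ⟨e, f, -, -, hef⟩
    have hli : LinearIndependent F e := by
      rw [Fintype.linearIndependent_iff]
      intro g hg i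
      have h := congrArg (fun z => H z (f i)) hg
      simp only [H_sum_left, H_smul_left, hef, H_zero_left] at h
      simpa using h
    simpa using hli.fintype_card_le_finrank
  have hconj : ∀ u v : Vec, ∀ c : F, H u v = c → H v u = c ^ q := fun u v c h => by
    rw [← h, H_conj hF]
  have hext : ∀ k (e f : Fin k → Vec), (∀ i j, H (e i) (e j) = 0) →
      (∀ i j, H (f i) (f j) = 0) → (∀ i j, H (e i) (f j) = if i = j then 1 else 0) →
      ∀ z : Vec, z ≠ 0 → H z z = 0 → (∀ i, H z (e i) = 0) → (∀ i, H z (f i) = 0) →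
      P (k + 1) := by
    intro k e f hee hff hef z hz hzz hze hzf
    obtain ⟨x, hx⟩ := exists_H_eq_one hF hz
    have hfe : ∀ i j, H (f i) (e j) = if i = j then 1 else 0 := fun i j => by
      rw [hconj _ _ _ (hef j i)]
      split_ifs with h1 h2 h2
      · rw [one_pow]
      · exact absurd h1.symm h2
      · exact absurd h2.symm h1
      · rw [zero_pow (q_ne_zero hF)]
    set x' := rest q e f x with hx'
    have hx'e : ∀ i, H x' (e i) = 0 := fun i => by
      rw [hx', rest, H_sub_left, H_sum_left]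
      simp [H_add_left, H_smul_left, hee, hfe]
    have hx'f : ∀ i, H x' (f i) = 0 := fun i => by
      rw [hx', rest, H_sub_left, H_sum_left]
      simp [H_add_left, H_smul_left, hef, hff]
    have hzx : H z x' = 1 := by
      rw [hx', rest, H_sub_right hF, H_sum_right hF]
      simp [H_add_right hF, H_smul_right, hze, hzf, hx]
    have hxz : H x' z = 1 := by rw [← H_conj hF, hzx, one_pow]
    obtain ⟨b, hb⟩ := exists_trace_eq hF (c := -H x' x') (by
      rw [← HermStd.qHom_apply hF, map_neg, HermStd.qHom_apply, H_conj hF])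
    set y := x' + b • z with hy
    have hye : ∀ i, H y (e i) = 0 := fun i => by rw [hy, H_add_left, H_smul_left, hx'e, hze]; simp
    have hyf : ∀ i, H y (f i) = 0 := fun i => by rw [hy, H_add_left, H_smul_left, hx'f, hzf]; simp
    have hzy : H z y = 1 := by rw [hy, H_add_right hF, H_smul_right, hzx, hzz]; simp
    have hyy : H y y = 0 := by
      rw [hy]
      simp only [H_add_left, H_add_right hF, H_smul_left, H_smul_right, hzz, hzx, hxz]
      linear_combination hb
    refine ⟨Fin.snoc e z, Fin.snoc f y, ?_, ?_, ?_⟩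
    · intro i j
      induction i using Fin.lastCases <;> induction j using Fin.lastCases <;>
        simp [hee, hzz, hze, (H_eq_zero_comm hF).1 (hze _)]
    · intro i j
      induction i using Fin.lastCases <;> induction j using Fin.lastCases <;>
        simp [hff, hyy, hyf, (H_eq_zero_comm hF).1 (hyf _)]
    · intro i j
      induction i using Fin.lastCases <;> induction j using Fin.lastCases <;>
        simp [hef, hzy, hzf, (H_eq_zero_comm hF).1 (hye _), Fin.ext_iff]
      · omega
      · omega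
  have hP0 : P 0 := ⟨Fin.elim0, Fin.elim0, fun i => i.elim0, fun i => i.elim0, fun i => i.elim0⟩
  set m := Nat.findGreatest P n with hm
  have hPm : P m := Nat.findGreatest_spec (Nat.zero_le _) hP0
  have hmax : ¬ P (m + 1) := fun h => by
    have := Nat.le_findGreatest (hbound _ h) h
    omega
  obtain ⟨e, f, hee, hff, hef⟩ := hPm
  refine ⟨m, e, f, hee, hff, hef, fun z hze hzf hzz => ?_⟩
  by_contra hz
  exact hmax (hext m e f hee hff hef z hz hzz hze hzf)

variable {e f : Fin m → Fin n → F} (fr : Frame q e f)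
include fr

theorem heis_sq {k : Fin m} {s : SUn} (hs : s ∈ heisGroup hF (fr.ee k k))
    (hsU : s ∈ flagGroup hF e) : s ^ 2 ∈ ⁅flagGroup hF e, flagGroup hF e⁆ := by
  have h2 : (2 : F) = 0 := CharTwo.two_eq_zero
  have hneg : ∀ x : F, -x = x := fun x => by linear_combination (-x) * h2
  obtain ⟨w, a, hok, hw⟩ := hs
  by_cases hek : e k = 0
  · have h := fr.ef k k
    rw [hek, H_zero_left, if_pos rfl] at h
    exact absurd h zero_ne_one
  have hperp : ∀ j : Fin m, (j : ℕ) ≤ k → H (e j) w = 0 := by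
    intro j hj
    have h1 := hsU j
    rw [heis_mulVec_e hF fr hw, sub_sub_cancel_left, neg_mem_iff] at h1
    have h3 := Vsp_f hF fr h1 (j := k) hj
    rw [H_smul_left, fr.ef, if_pos rfl, mul_one] at h3
    exact h3
  obtain ⟨lam, hlam⟩ := exists_trace_eq hF (c := (1 : F)) (one_pow q)
  have hww : H w w = a + a ^ q := by linear_combination -hok.2 + H w w * h2
  set a' := a * (lam * lam ^ q) with ha'
  have hnq : (lam * lam ^ q) ^ q = lam * lam ^ q := by rw [mul_pow, pow_qq hF, mul_comm]
  have hok' : Ok q (e k) (lam • w) a' := by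
    refine ⟨by rw [H_smul_left, hok.1, mul_zero], ?_⟩
    rw [ha', mul_pow, hnq, H_smul_left, H_smul_right]
    linear_combination (lam * lam ^ q) * hok.2
  set t := heisEl hF (fr.ee k k) hok' with ht
  have htw : IsHeis (e k) t (lam • w) a' := isHeis_heisEl hF (fr.ee k k) hok'
  have htU : t ∈ flagGroup hF e := heis_mem_flag hF fr htw fun j hj => by
    rw [H_smul_right, hperp j hj, mul_zero]
  have h12 := hw.mul hF (fr.ee k k) hok.1 hok'.1 htw
  have h21 := htw.mul hF (fr.ee k k) hok'.1 hok.1 hw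
  have hss := hw.mul hF (fr.ee k k) hok.1 hok.1 hw
  have hsts := hss.mul hF (fr.ee k k) (Ok.add hF hok hok).1 (Ok.add hF hok' hok).1 h21
  have key : s * s * (t * s) = s * t := SU_ext fun x => by
    rw [hsts x, h12 x]
    have hv : w + w + (lam • w + w) = w + lam • w := by
      rw [← two_smul F w, h2, zero_smul, zero_add, add_comm]
    have hc : a + a - H w w + (a' + a - H w (lam • w)) - H (lam • w + w) (w + w) =
        a + a' - H (lam • w) w := by
      rw [← two_smul F w, h2, zero_smul, H_zero_right hF, sub_zero, H_smul_right, H_smul_left]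
      linear_combination (a - H w w * lam ^ q) * h2 + H w w * hlam
    rw [hv, hc]
  have : s ^ 2 = s * t * s⁻¹ * t⁻¹ := by
    rw [← key, sq]; group
  rw [this]
  exact comm_mem hsU htU

theorem sqDer_flag : SqDer (flagGroup hF e) := by
  refine sqDer_closure (S := {s | (∃ k, s ∈ heisGroup hF (fr.ee k k)) ∧ s ∈ flagGroup hF e})
    (le_antisymm (flag_le_gen hF fr) (heisGen_le hF fr)) ?_
  rintro s ⟨⟨k, hs⟩, hsU⟩
  exact heis_sq hF fr hs hsU

omit fr in
theorem psu (hn : 2 ≤ n) (P : Sylow 2 (PSU n F q)) : SqDer (P : Subgroup (PSU n F q)) := by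
  have : Fact (Nat.Prime 2) := ⟨Nat.prime_two⟩
  obtain ⟨m, e, f, fr⟩ := exists_frame hF (n := n) (by omega)
  obtain ⟨P₀, hP₀⟩ := Fusion.SimplePSU.exists_sylow hF fr 2 hn
  refine sqDer_conj (P₀ := P₀) ?_ P
  rw [hP₀]
  exact sqDer_hom (sqDer_flag hF fr) _

end PSU

section POmega

open Cfsg.Agent.Classical Cfsg.Agent.Classical.Orth Cfsg.Agent.Classical.OrthForms
  Cfsg.Agent.Forms Cfsg.Agent.Forms.PlusStd

variable {F : Type*} [Field F] [Fintype F] [CharP F 2]

theorem pomega {ι : Type} [Fintype ι] [DecidableEq ι] {Q : QuadraticForm F (ι → F)}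
    (hQ : (QuadraticMap.polarBilin Q).Nondegenerate) (f : Frame Q) (hn : 5 ≤ Fintype.card ι)
    (P : Sylow 2 (POmega F ⇑Q)) : SqDer (P : Subgroup (POmega F ⇑Q)) := by
  have : Fact (Nat.Prime 2) := ⟨Nat.prime_two⟩
  obtain ⟨R⟩ : Nonempty (Sylow 2 (Cfsg.Omega F ⇑Q)) := inferInstance
  refine sqDer_conj (P₀ := R.mapSurjective (QuotientGroup.mk'_surjective _)) ?_ P
  exact sqDer_hom (OrthChar2.sqDer_omega hQ CharTwo.two_eq_zero f hn R) _

theorem pomegaPlus {m : ℕ} (hm : 4 ≤ m) (P : Sylow 2 (POmega F (quadFormPlus m F))) :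
    SqDer (P : Subgroup (POmega F (quadFormPlus m F))) := by
  revert P
  rw [← plusQ_eq]
  exact pomega (plusQ_nondeg F m) (plusFrame F (by omega)) (by simp; omega)

theorem pomegaMinus {k : ℕ} (hk : 3 ≤ k) {a b : F}
    (hab : ∀ z₁ z₂ : F, z₁ ^ 2 + a * z₁ * z₂ + b * z₂ ^ 2 = 0 → z₁ = 0 ∧ z₂ = 0)
    (P : Sylow 2 (POmega F (quadFormMinus k F a b))) :
    SqDer (P : Subgroup (POmega F (quadFormMinus k F a b))) := by
  revert P
  rw [← minQ_eq]
  exact pomega (minQ_nondeg k hab) (minFrame F (by omega) a b) (by simp; omega)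

end POmega

end Cfsg.Agent.SylowAb.LieTwoClassical
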