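import Cfsg.Agent.Lib.SylowAb.TwistGen
import Cfsg.Agent.Lib.Chevalley.Twist.CountF4
import Cfsg.Agent.Lib.Suzuki.Sylow
import Cfsg.Agent.SimpleFacts.ChevalleySylow

/-!
# Exceptional groups of Lie type in characteristic two: squares in the derived Sylow subgroup
-/

set_option autoImplicit false

open scoped Matrix

namespace Cfsg.Agent.SylowAb.LieTwoExc

open Cfsg.Lie Cfsg.Agent.Chevalley Cfsg.Agent.Chevalley.Table Cfsg.Agent.Chevalley.Cert
  Cfsg.Agent.Chevalley.Group Cfsg.Agent.Chevalley.Twist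

variable {F : Type*} [Field F] [Fintype F] [CharP F 2]

theorem sqDer_sylow' {G : Type*} [Group G] [Finite G] {P₀ : Sylow 2 G}
    (h : SqDer (P₀ : Subgroup G)) (P : Sylow 2 G) : SqDer (P : Subgroup G) :=
  sqDer_mulEquiv (P₀.equiv P) h

theorem chevalley (D : ChevalleyDatum)
    (hD : D ∈ [chevG2, chevB2, chevD4, chevF4, chevE6, chevE7, chevE8])
    (P : Sylow 2 ↥(D.group F)) : SqDer (P : Subgroup ↥(D.group F)) := by
  classical
  have : Fact (Nat.Prime 2) := ⟨Nat.prime_two⟩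
  obtain ⟨P₀, hP₀⟩ := SimpleFacts.ChevalleySylow.exists_sylow (F := F) 2 D hD
  refine sqDer_sylow' (P₀ := P₀) ?_ P
  rw [hP₀]
  obtain ⟨T, hC⟩ := Chevalley.Types.All.exists_certified hD
  have h : SqDer (D.posUnipotent F) := by
    refine sqDer_closure_invol (Chevalley.Borel.U_eq_closure hC) ?_
    rintro g ⟨r, t, -, -, rfl⟩
    rw [← xg_add hC, CharTwo.add_self_eq_zero, xg_zero hC]
  exact sqDer_mulEquiv (Subgroup.subgroupOfEquivOfLe
    ((le_sup_left).trans (Chevalley.Borel.U_sup_V hC).le)).symm h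

theorem odd_pow_sub_one {q : ℕ} (hq : Even q) (h1 : 1 ≤ q) {k : ℕ} (hk : k ≠ 0) : Odd (q ^ k - 1) :=
  Nat.Even.sub_odd (Nat.one_le_pow _ _ h1) ((Nat.even_pow).2 ⟨hq, hk⟩) odd_one

theorem odd_pow_add_one {q : ℕ} (hq : Even q) {k : ℕ} (hk : k ≠ 0) : Odd (q ^ k + 1) :=
  ((Nat.even_pow).2 ⟨hq, hk⟩).add_one

theorem exists_two_pow {q : ℕ} (hq : IsPrimePow q) {n : ℕ} (hn : n ≠ 0)
    (hF : Fintype.card F = q ^ n) : ∃ f, f ≠ 0 ∧ q = 2 ^ f := by
  obtain ⟨p, k, hp, hk, rfl⟩ := hq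
  obtain ⟨a, h2, ha⟩ := FiniteField.card F 2
  rw [hF, ← pow_mul] at ha
  have hp2 : p = 2 := (Nat.prime_dvd_prime_iff_eq hp.nat_prime Nat.prime_two).1
    (hp.nat_prime.dvd_of_dvd_pow (n := a)
      (ha ▸ dvd_pow_self p (Nat.mul_ne_zero hk.ne' hn)))
  exact ⟨k, hk.ne', by rw [hp2]⟩

theorem two_eq_zero' : (2 : F) = 0 := CharTwo.two_eq_zero

theorem twistedE6 {q : ℕ} (hq : IsPrimePow q) (hF : Fintype.card F = q ^ 2)
    (P : Sylow 2 ↥(twistedE6 F q)) : SqDer (P : Subgroup ↥(twistedE6 F q)) := by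
  classical
  have : Fact (Nat.Prime 2) := ⟨Nat.prime_two⟩
  obtain ⟨X⟩ := Twist.E6.exists_setup hq hF
  obtain ⟨f, hf, hq2⟩ := exists_two_pow hq two_ne_zero hF
  have hev : Even q := by rw [hq2]; exact (Nat.even_pow).2 ⟨even_two, hf⟩
  have h1 : 1 ≤ q := le_trans (by norm_num) hq.two_le
  set M := (q ^ 2 - 1) * (q ^ 5 + 1) * (q ^ 6 - 1) * (q ^ 8 - 1) * (q ^ 9 + 1) * (q ^ 12 - 1)
  have hM : Odd M :=
    (((((odd_pow_sub_one hev h1 (by norm_num)).mul (odd_pow_add_one hev (by norm_num))).mul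
      (odd_pow_sub_one hev h1 (by norm_num))).mul (odd_pow_sub_one hev h1 (by norm_num))).mul
      (odd_pow_add_one hev (by norm_num))).mul (odd_pow_sub_one hev h1 (by norm_num))
  have hg : Nat.gcd 3 (q + 1) = 1 ∨ Nat.gcd 3 (q + 1) = 3 :=
    (Nat.dvd_prime Nat.prime_three).1 (Nat.gcd_dvd_left _ _)
  have hcard : Nat.gcd 3 (q + 1) * Nat.card (Cfsg.Lie.twistedE6 F q) = q ^ 36 * M := by
    rw [Twist.E6.card_group X hq]; simp only [M]; ring
  set d := Nat.gcd 3 (q + 1)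
  have hcop : Nat.Coprime d (q ^ 36) := by
    rw [hq2, ← pow_mul]
    refine Nat.Coprime.pow_right _ ?_
    rcases hg with h | h <;> simp only [d] at * <;> rw [h] <;> norm_num
  obtain ⟨M', hM'⟩ : d ∣ M := hcop.dvd_of_dvd_mul_left ⟨_, hcard.symm⟩
  have hd : 0 < d := Nat.gcd_pos_of_pos_left _ (by norm_num)
  obtain ⟨P₀, hP₀⟩ := Twist.exists_sylow_UK (D := chevE6) (K := Cfsg.Lie.twistedE6 F q) 2 (f * 36) M'
    (by rw [Twist.E6.card_U X hq, hq2, ← pow_mul])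
    (Nat.eq_of_mul_eq_mul_left hd (by
      rw [hcard, hM', pow_mul, ← hq2]; ring))
    (fun h => Nat.not_even_iff_odd.2 hM (even_iff_two_dvd.2 (hM' ▸ h.mul_left d)))
  refine sqDer_sylow' (P₀ := P₀) ?_ P
  rw [hP₀]
  exact TwistGen.sqDer_UK X.O X.gen
    (TwistGen.orb_of_orth X.O two_eq_zero' X.π_eq (Twist.E6.orth X))

theorem twistedD4 {q : ℕ} (hq : IsPrimePow q) (hF : Fintype.card F = q ^ 3)
    (P : Sylow 2 ↥(twistedD4 F q)) : SqDer (P : Subgroup ↥(twistedD4 F q)) := by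
  classical
  have : Fact (Nat.Prime 2) := ⟨Nat.prime_two⟩
  obtain ⟨X⟩ := Twist.D4.exists_setup hq hF
  obtain ⟨f, hf, hq2⟩ := exists_two_pow hq three_ne_zero hF
  have hev : Even q := by rw [hq2]; exact (Nat.even_pow).2 ⟨even_two, hf⟩
  have h1 : 1 ≤ q := le_trans (by norm_num) hq.two_le
  have h8 : Odd (q ^ 8 + q ^ 4 + 1) :=
    (((Nat.even_pow).2 ⟨hev, by norm_num⟩).add ((Nat.even_pow).2 ⟨hev, by norm_num⟩)).add_one
  have hM : Odd ((q ^ 2 - 1) * (q ^ 6 - 1) * (q ^ 8 + q ^ 4 + 1)) :=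
    ((odd_pow_sub_one hev h1 (by norm_num)).mul (odd_pow_sub_one hev h1 (by norm_num))).mul h8
  obtain ⟨P₀, hP₀⟩ := Twist.exists_sylow_UK (D := chevD4) (K := Cfsg.Lie.twistedD4 F q) 2 (f * 12)
    ((q ^ 2 - 1) * (q ^ 6 - 1) * (q ^ 8 + q ^ 4 + 1))
    (by rw [Twist.D4.card_U X hq, hq2, ← pow_mul])
    (by rw [Twist.D4.card_group X hq, pow_mul, ← hq2]; ring)
    (fun h => Nat.not_even_iff_odd.2 hM (even_iff_two_dvd.2 h))
  refine sqDer_sylow' (P₀ := P₀) ?_ P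
  rw [hP₀]
  exact TwistGen.sqDer_UK X.O X.gen
    (TwistGen.orb_of_orth X.O two_eq_zero' X.π_eq (Twist.D4.orth X))

section F4

open Cfsg.Agent.Chevalley.Twist.F4

/-- the central part of a class -/
def cC (w z : F) : GL chevF4.Idx F := xg Twist.F4.hC 28 w * xg Twist.F4.hC 30 z

theorem cC_mul (w z w' z' : F) : cC w z * cC w' z' = cC (w + w') (z + z') := by
  simp only [cC]
  rw [mul_assoc, ← mul_assoc (xg Twist.F4.hC 30 z), comm_even (r := 28) (s := 30) (by simp),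
    xg_add Twist.F4.hC, xg_add Twist.F4.hC]
  group

theorem cC_comm (r : ℕ) (hr : r = 25 ∨ r = 27) (T w z : F) :
    cC w z * xg Twist.F4.hC r T = xg Twist.F4.hC r T * cC w z := by
  simp only [cC]
  rcases hr with rfl | rfl <;>
  · rw [mul_assoc, comm_even (by simp) T z, ← mul_assoc, comm_even (by simp) T w, mul_assoc]

/-- the four coordinates -/
def el (S T w z : F) : GL chevF4.Idx F :=
  xg Twist.F4.hC 27 S * xg Twist.F4.hC 25 T * cC w z

theorem el_mul (S T w z S' T' w' z' : F) : el S T w z * el S' T' w' z' =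
    el (S + S') (T + T') (w + w' + S' * T) (z + z' + S' ^ 2 * T) := by
  simp only [el]
  calc xg Twist.F4.hC 27 S * xg Twist.F4.hC 25 T * cC w z *
        (xg Twist.F4.hC 27 S' * xg Twist.F4.hC 25 T' * cC w' z')
      = xg Twist.F4.hC 27 S * (xg Twist.F4.hC 25 T * (cC w z * xg Twist.F4.hC 27 S')) *
          xg Twist.F4.hC 25 T' * cC w' z' := by group
    _ = xg Twist.F4.hC 27 S * (xg Twist.F4.hC 25 T * xg Twist.F4.hC 27 S') * cC w z *
          xg Twist.F4.hC 25 T' * cC w' z' := by rw [cC_comm 27 (Or.inr rfl)]; group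
    _ = xg Twist.F4.hC 27 S * xg Twist.F4.hC 27 S' * (xg Twist.F4.hC 25 T *
          (cC (S' * T) (S' ^ 2 * T) * (cC w z * xg Twist.F4.hC 25 T'))) * cC w' z' := by
        rw [comm_pos S' T]; simp only [cC]; group
    _ = xg Twist.F4.hC 27 S * xg Twist.F4.hC 27 S' * (xg Twist.F4.hC 25 T *
          xg Twist.F4.hC 25 T') * (cC (S' * T) (S' ^ 2 * T) * cC w z * cC w' z') := by
        rw [cC_comm 25 (Or.inl rfl), ← mul_assoc (cC (S' * T) (S' ^ 2 * T)),
          cC_comm 25 (Or.inl rfl)]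
        group
    _ = _ := by
        rw [cC_mul, cC_mul, ← xg_add Twist.F4.hC, ← xg_add Twist.F4.hC]
        congr 2 <;> ring

theorem cw_eq_el (e : ℕ) (t u : F) :
    cw e 27 25 28 30 t u = el (t ^ e) t (t ^ (e + 1) + u) (u ^ (2 * e)) := by
  simp only [cw, el, cC, mul_assoc]

theorem orbit_two {m : ℕ} (hm : 1 ≤ m) (hF : Fintype.card F = 2 ^ (2 * m + 1)) (t u : F) :
    ∃ t' lam : F, cw (2 ^ m) 27 25 28 30 t u * cw (2 ^ m) 27 25 28 30 t u =
      cw (2 ^ m) 27 25 28 30 t' 0 * cw (2 ^ m) 27 25 28 30 (lam * t') 0 *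
        (cw (2 ^ m) 27 25 28 30 t' 0)⁻¹ * (cw (2 ^ m) 27 25 28 30 (lam * t') 0)⁻¹ := by
  classical
  have h2 : (2 : F) = 0 := CharTwo.two_eq_zero
  obtain ⟨e, he⟩ : ∃ e, e = 2 ^ m := ⟨_, rfl⟩
  have he2 : 2 ≤ e := he ▸ Nat.le_self_pow (by omega) 2
  have hq : Fintype.card F = 2 * e ^ 2 := by rw [hF, he]; ring
  have hfix : ∀ x : F, x ^ (2 * e ^ 2) = x := fun x => by rw [← hq]; exact FiniteField.pow_card x
  obtain ⟨lam, hlam⟩ : ∃ lam : F, lam ^ e + lam ≠ 0 := by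
    by_contra hcon
    push Not at hcon
    have hid : ∀ x : F, x ^ e = x := fun x => CharTwo.add_eq_zero.1 (hcon x)
    have hsq : ∀ x : F, x ^ 2 = x := fun x => by
      have h := hfix x
      rwa [show 2 * e ^ 2 = e * (e * 2) by ring, pow_mul, hid, pow_mul, hid] at h
    have hle : Fintype.card F ≤ 2 := by
      calc Fintype.card F = (Finset.univ : Finset F).card := rfl
        _ ≤ ({0, 1} : Finset F).card := Finset.card_le_card fun x _ => by
          have h0 : x * (x - 1) = 0 := by linear_combination hsq x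
          rcases mul_eq_zero.1 h0 with h | h
          · simp [h]
          · simp [sub_eq_zero.1 h]
        _ ≤ 2 := Finset.card_le_two
    nlinarith
  rw [← he]
  have hpow : t ^ (e * (2 * e)) = t := by rw [show e * (2 * e) = 2 * e ^ 2 by ring, hfix]
  set c := t ^ (e + 1) / (lam ^ e + lam) with hc
  obtain ⟨t', ht'⟩ : ∃ t' : F, t' ^ (e + 1) = c := by
    rcases eq_or_ne c 0 with h0 | h0
    · exact ⟨0, by rw [h0, zero_pow]; omega⟩
    refine ⟨(c ^ (2 * (e - 1)))⁻¹, ?_⟩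
    rw [inv_pow, ← pow_mul]
    have hexp : 2 * (e - 1) * (e + 1) + 2 = 2 * e ^ 2 := by
      obtain ⟨k, rfl⟩ : ∃ k, e = k + 1 := ⟨e - 1, by omega⟩
      simp only [Nat.add_sub_cancel]; ring
    have h := hfix c
    rw [← hexp, pow_add] at h
    field_simp
    refine mul_right_cancel₀ h0 ?_
    linear_combination -h
  have hp : t ^ (e + 1) = (lam ^ e + lam) * t' ^ (e + 1) := by
    rw [ht', hc, mul_div_cancel₀ _ hlam]
  refine ⟨t', lam, ?_⟩
  have hz : (0 : F) ^ (2 * e) = 0 := zero_pow (by omega)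
  set A := cw e 27 25 28 30 t' 0 with hA
  set B := cw e 27 25 28 30 (lam * t') 0 with hB
  suffices h : cw e 27 25 28 30 t u * cw e 27 25 28 30 t u * (B * A) = A * B by
    calc cw e 27 25 28 30 t u * cw e 27 25 28 30 t u
        = cw e 27 25 28 30 t u * cw e 27 25 28 30 t u * (B * A) * A⁻¹ * B⁻¹ := by group
      _ = A * B * A⁻¹ * B⁻¹ := by rw [h]
  rw [hA, hB]
  simp only [cw_eq_el, el_mul, hz, add_zero]
  have hz2 : t ^ (e + 1) = t ^ e * t := pow_succ _ _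
  have hp' : t' ^ (e + 1) = t' ^ e * t' := pow_succ _ _
  have hexp2 : (t ^ e) ^ 2 * t = (t ^ (e + 1)) ^ (2 * e) := by
    rw [← pow_mul t (e + 1), show (e + 1) * (2 * e) = e * (2 * e) + e * 2 by ring, pow_add, hpow,
      pow_mul t e 2]
    ring
  have hpowt : t' ^ (e * (2 * e)) = t' := by rw [show e * (2 * e) = 2 * e ^ 2 by ring, hfix]
  have hpowl : lam ^ (e * (2 * e)) = lam := by rw [show e * (2 * e) = 2 * e ^ 2 by ring, hfix]
  have hzc : (t ^ e) ^ 2 * t =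
      (lam + (lam ^ e) ^ 2) * ((t' ^ e) ^ 2 * t') := by
    rw [hexp2, hp, mul_pow]
    have hadd : (lam ^ e + lam) ^ (2 * e) = lam + (lam ^ e) ^ 2 := by
      rw [show 2 * e = 2 ^ (m + 1) by rw [he]; ring, add_pow_char_pow,
        show 2 ^ (m + 1) = 2 * e by rw [he]; ring, ← pow_mul, hpowl, ← pow_mul, mul_comm 2 e]
    rw [hadd]
    congr 1
    rw [← pow_mul, show (e + 1) * (2 * e) = e * (2 * e) + e * 2 by ring, pow_add, hpowt, pow_mul]
    ring
  congr 1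
  · linear_combination t ^ e * h2
  · linear_combination t * h2
  · simp only [mul_pow]
    linear_combination (t ^ e * t + u + t * lam ^ e * t' ^ e + t * t' ^ e + lam * t' * t' ^ e) * h2 +
      hp - hz2
  · simp only [mul_pow]
    linear_combination (u ^ (2 * e) + t * t' ^ (e * 2) + t * t' ^ (e * 2) * lam ^ e * 2 +
      t * t' ^ (e * 2) * lam ^ (e * 2) + t' * t' ^ (e * 2) * lam) * h2 + hzc

theorem twistedF4 {m : ℕ} (hm : 1 ≤ m) (hF : Fintype.card F = 2 ^ (2 * m + 1))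
    (P : Sylow 2 ↥(twistedF4 F (2 ^ m))) : SqDer (P : Subgroup ↥(twistedF4 F (2 ^ m))) := by
  classical
  have : Fact (Nat.Prime 2) := ⟨Nat.prime_two⟩
  obtain ⟨X⟩ := Twist.F4.exists_setup hF
  have hev : Even (2 ^ (2 * m + 1) : ℕ) := (Nat.even_pow).2 ⟨even_two, by omega⟩
  have h1 : 1 ≤ (2 ^ (2 * m + 1) : ℕ) := Nat.one_le_two_pow
  have hM : Odd ((2 ^ (2 * m + 1) - 1) * ((2 ^ (2 * m + 1)) ^ 3 + 1) *
      ((2 ^ (2 * m + 1)) ^ 4 - 1) * ((2 ^ (2 * m + 1)) ^ 6 + 1)) :=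
    (((Nat.Even.sub_odd h1 hev odd_one).mul (odd_pow_add_one hev (by norm_num))).mul
      (odd_pow_sub_one hev h1 (by norm_num))).mul (odd_pow_add_one hev (by norm_num))
  obtain ⟨P₀, hP₀⟩ := Twist.exists_sylow_UK (D := chevF4) (K := Cfsg.Lie.twistedF4 F (2 ^ m)) 2
    ((2 * m + 1) * 12) _
    (by rw [Twist.F4.card_U X, ← pow_mul])
    (by rw [Twist.F4.card_group X, pow_mul]; ring) (fun h => Nat.not_even_iff_odd.2 hM (even_iff_two_dvd.2 h))
  refine sqDer_sylow' (P₀ := P₀) ?_ P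
  rw [hP₀]
  refine TwistGen.sqDer_UK X.O X.gen fun a ha x hx => ?_
  have ha2 : a < 2 := X.k_eq ▸ ha
  interval_cases a
  · rw [Twist.F4.J0 X] at hx ⊢
    obtain ⟨h3, h4⟩ := (mem_Uw (by decide) 1).1 hx
    obtain ⟨f, -, rfl⟩ := fixed_Uminus (Twist.F4.orth0 X) X.π_eq h4 h3
    rw [← opr_add (Twist.F4.orth0 X) (Or.inl rfl) _ (orth_nodup (Twist.F4.orth0 X))
      (fun _ h => h), show f + f = 0 from funext fun i => CharTwo.add_self_eq_zero (f i), opr_zero]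
    exact one_mem _
  · rw [Twist.F4.J1 X] at hx ⊢
    obtain ⟨t, u, rfl⟩ := (X.cls x).1 hx
    obtain ⟨t', lam, h⟩ := orbit_two hm hF t u
    rw [h]
    exact comm_mem ((X.cls _).2 ⟨_, _, rfl⟩) ((X.cls _).2 ⟨_, _, rfl⟩)

end F4

theorem suzuki {m : ℕ} (hm : 1 ≤ m) (hF : Fintype.card F = 2 ^ (2 * m + 1))
    (P : Sylow 2 (Cfsg.Sz F m)) : SqDer (P : Subgroup (Cfsg.Sz F m)) := by
  obtain ⟨e⟩ := Suzuki.sylow_equiv hm hF P
  refine sqDer_mulEquiv e fun x => ?_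
  obtain ⟨a, b, rfl⟩ := Suzuki.ut_surjective hF x
  rw [Suzuki.commutator_eq hm hF, sq, Suzuki.ut_mul, CharTwo.add_self_eq_zero]
  exact (Suzuki.mem_center_iff' hm hF).2 rfl

end Cfsg.Agent.SylowAb.LieTwoExc
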