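import Mathlib

/-!
# Two-groups with elementary abelian abelianization

`SqDer P`: squares of elements of `P` lie in the derived subgroup of `P`.
-/

set_option autoImplicit false

namespace Cfsg.Agent.SylowAb

open Subgroup

variable {G H : Type*} [Group G] [Group H]

/-- the squares of `P` lie in `[P, P]` -/
def SqDer (P : Subgroup G) : Prop := ∀ x : P, x ^ 2 ∈ commutator P

theorem mem_commutator_iff (P : Subgroup G) (x : P) : x ∈ commutator P ↔ (x : G) ∈ ⁅P, P⁆ := by
  rw [← Subgroup.map_subtype_commutator P]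
  exact (Subgroup.mem_map_iff_mem (f := P.subtype) P.subtype_injective).symm

theorem sqDer_closure {P : Subgroup G} {S : Set G} (hS : P = Subgroup.closure S)
    (h : ∀ s ∈ S, s ^ 2 ∈ ⁅P, P⁆) : SqDer P := by
  let f : P →* Abelianization P :=
    (powMonoidHom 2).comp (Abelianization.of : P →* Abelianization P)
  have hf : ∀ x : P, x ^ 2 ∈ commutator P ↔ f x = 1 := fun x => by
    rw [← Abelianization.ker_of, MonoidHom.mem_ker]
    simp [f]
  intro x
  rw [hf]
  have key : P ≤ f.ker.map P.subtype := by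
    nth_rewrite 1 [hS]
    refine (Subgroup.closure_le _).2 fun s hs => ?_
    have hsP : s ∈ P := by rw [hS]; exact Subgroup.subset_closure hs
    refine ⟨⟨s, hsP⟩, ?_, rfl⟩
    rw [SetLike.mem_coe, MonoidHom.mem_ker, ← hf, mem_commutator_iff]
    exact h s hs
  obtain ⟨y, hy, hyx⟩ := key x.2
  obtain rfl : y = x := P.subtype_injective hyx
  exact hy

theorem sqDer_closure_invol {P : Subgroup G} {S : Set G} (hS : P = Subgroup.closure S)
    (h : ∀ s ∈ S, s * s = 1) : SqDer P :=
  sqDer_closure hS fun s hs => by rw [sq, h s hs]; exact one_mem _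

theorem sqDer_mulEquiv {P : Subgroup G} {R : Subgroup H} (e : P ≃* R) (h : SqDer P) : SqDer R := by
  intro x
  have h1 : e (e.symm x ^ 2) ∈ (commutator P).map e.toMonoidHom := Subgroup.mem_map_of_mem _ (h _)
  rw [commutator_def, Subgroup.map_commutator,
    Subgroup.map_top_of_surjective _ e.surjective, ← commutator_def] at h1
  simpa using h1

theorem sqDer_map {P : Subgroup G} (h : SqDer P) (φ : G →* H) (hφ : Function.Injective φ) :
    SqDer (P.map φ) :=
  sqDer_mulEquiv (P.equivMapOfInjective φ hφ) h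

/-- one Sylow `2`-subgroup decides for all of them -/
theorem sqDer_sylow [Finite G] {P0 : Subgroup G}
    (hcard : Nat.card P0 = 2 ^ (Nat.card G).factorization 2) (h : SqDer P0) (P : Sylow 2 G) :
    SqDer (P : Subgroup G) := by
  have hfact : Fact (Nat.Prime 2) := ⟨Nat.prime_two⟩
  exact sqDer_mulEquiv ((Sylow.ofCard P0 hcard).equiv P) h

/-- orders of semidirect products inside a group -/
theorem card_sup {A B : Subgroup G} (hn : B ≤ Subgroup.normalizer (A : Set G))
    (hd : Disjoint A B) : Nat.card ↥(A ⊔ B) = Nat.card A * Nat.card B := by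
  rw [← Nat.card_prod]
  refine (Nat.card_congr (Equiv.ofBijective
    (fun p : A × B => (⟨(p.1 : G) * p.2, Subgroup.mul_mem_sup p.1.2 p.2.2⟩ : ↥(A ⊔ B)))
    ⟨fun p p' hpp => ?_, fun x => ?_⟩)).symm
  · exact Subgroup.mul_injective_of_disjoint hd (congrArg Subtype.val hpp)
  · have hx : (x : G) ∈ (↑(A ⊔ B) : Set G) := x.2
    rw [Subgroup.coe_mul_of_right_le_normalizer_left A B hn] at hx
    obtain ⟨a, ha, b, hb, hab⟩ := Set.mem_mul.1 hx
    exact ⟨(⟨a, ha⟩, ⟨b, hb⟩), Subtype.ext hab⟩

theorem comm_mem {P : Subgroup G} {a b : G} (ha : a ∈ P) (hb : b ∈ P) :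
    a * b * a⁻¹ * b⁻¹ ∈ ⁅P, P⁆ :=
  Subgroup.commutator_mem_commutator ha hb

end Cfsg.Agent.SylowAb
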