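import Mathlib
import Cfsg.Agent.Lib.Classical.OrthForms
import Cfsg.Agent.Lib.Forms.Disc
import Cfsg.Agent.Lib.SylowAb.Basic

/-!
# Diagonal models of quadratic forms
-/

set_option autoImplicit false

namespace Cfsg.Agent.SylowAb

open Matrix Cfsg.Agent.Forms Cfsg.Agent.Forms.QuadStd Cfsg.Agent.Forms.Reflections
open Cfsg.Agent.Classical.OrthForms Cfsg.Agent.Forms.PlusStd

variable {F : Type*} [Field F] {ι κ : Type} [Fintype ι] [DecidableEq ι] [Fintype κ] [DecidableEq κ]

/-- an isometry as a linear equivalence -/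
def isoLin {Q : (ι → F) → F} (g : Cfsg.isometryGroup F Q) : (ι → F) ≃ₗ[F] (ι → F) where
  toFun v := (g.1 : Matrix ι ι F) *ᵥ v
  map_add' u v := Matrix.mulVec_add _ u v
  map_smul' c v := Matrix.mulVec_smul _ c v
  invFun v := ((g.1⁻¹ : GL ι F) : Matrix ι ι F) *ᵥ v
  left_inv v := by
    show _ *ᵥ (_ *ᵥ v) = v
    rw [Matrix.mulVec_mulVec, Units.inv_mul, Matrix.one_mulVec]
  right_inv v := by
    show _ *ᵥ (_ *ᵥ v) = v
    rw [Matrix.mulVec_mulVec, Units.mul_inv, Matrix.one_mulVec]

/-- conjugating an isometry group by an isometry -/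
noncomputable def isoCongr {Q : (ι → F) → F} {Q' : (κ → F) → F} (e : (ι → F) ≃ₗ[F] (κ → F))
    (h : ∀ v, Q' (e v) = Q v) : Cfsg.isometryGroup F Q ≃* Cfsg.isometryGroup F Q' :=
  { toFun := fun g => isoOfEquiv Q' ((e.symm.trans (isoLin g)).trans e) fun v => by
      show Q' (e ((g.1 : Matrix ι ι F) *ᵥ e.symm v)) = Q' v
      rw [h, iso_mulVec (Q := Q), ← h, LinearEquiv.apply_symm_apply]
    invFun := fun g => isoOfEquiv Q ((e.trans (isoLin g)).trans e.symm) fun v => by
      show Q (e.symm ((g.1 : Matrix κ κ F) *ᵥ e v)) = Q v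
      rw [← h, LinearEquiv.apply_symm_apply, iso_mulVec (Q := Q'), h]
    left_inv := fun g => iso_ext fun v => by
      rw [isoOfEquiv_mulVec]
      show e.symm (((isoOfEquiv Q' _ _).1 : Matrix κ κ F) *ᵥ e v) = _
      rw [isoOfEquiv_mulVec]
      show e.symm (e ((g.1 : Matrix ι ι F) *ᵥ e.symm (e v))) = _
      simp
    right_inv := fun g => iso_ext fun v => by
      rw [isoOfEquiv_mulVec]
      show e (((isoOfEquiv Q _ _).1 : Matrix ι ι F) *ᵥ e.symm v) = _
      rw [isoOfEquiv_mulVec]
      show e (e.symm ((g.1 : Matrix κ κ F) *ᵥ e (e.symm v))) = _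
      simp
    map_mul' := fun g g' => iso_ext fun v => by
      rw [mul_mulVec_iso, isoOfEquiv_mulVec, isoOfEquiv_mulVec, isoOfEquiv_mulVec]
      show e (((g * g').1 : Matrix ι ι F) *ᵥ e.symm v) =
        e ((g.1 : Matrix ι ι F) *ᵥ e.symm (e ((g'.1 : Matrix ι ι F) *ᵥ e.symm v)))
      rw [mul_mulVec_iso, LinearEquiv.symm_apply_apply] }

/-- the discriminant of the polar form -/
noncomputable def discr (Q : QuadraticForm F (ι → F)) : F :=
  (Disc.gram (polB Q) (Pi.basisFun F ι)).det

theorem discr_eq_of {Q : QuadraticForm F (ι → F)} {A : Matrix ι ι F}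
    (h : ∀ i j, QuadraticMap.polar Q (Pi.single i 1) (Pi.single j 1) = A i j) :
    discr Q = A.det := by
  rw [discr]
  congr 1
  ext i j
  simp [Disc.gram, polB_apply, h]

theorem exists_iso [Fintype F] (h2 : (2 : F) ≠ 0) {Q : QuadraticForm F (ι → F)}
    {Q' : QuadraticForm F (κ → F)} (hQ : (QuadraticMap.polarBilin Q).Nondegenerate)
    (hQ' : (QuadraticMap.polarBilin Q').Nondegenerate) (hn : Fintype.card ι = Fintype.card κ)
    (hd : IsSquare (discr Q * discr Q')) :
    Nonempty (Cfsg.isometryGroup F ⇑Q ≃* Cfsg.isometryGroup F ⇑Q') := by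
  obtain ⟨e, he⟩ := Disc.exists_isometry h2 (polB Q) ⟨fun x y => QuadraticMap.polar_comm _ x y⟩ hQ
    (polB Q') ⟨fun x y => QuadraticMap.polar_comm _ x y⟩ hQ'
    (by rw [Module.finrank_pi, Module.finrank_pi, hn]) _ _ hd
  refine ⟨isoCongr e fun v => ?_⟩
  have h := he v v
  simp only [polB_apply, QuadraticMap.polar_self, nsmul_eq_mul, Nat.cast_ofNat] at h
  exact mul_left_cancel₀ h2 h

theorem sqDer_commutator_transfer {G H : Type*} [Group G] [Group H] [Finite G]
    (e : G ≃* H) (h : ∀ P : Sylow 2 (commutator G), SqDer (P : Subgroup (commutator G)))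
    (P : Sylow 2 (commutator H)) : SqDer (P : Subgroup (commutator H)) := by
  have : Finite H := Finite.of_equiv G e.toEquiv
  have : Fact (Nat.Prime 2) := ⟨Nat.prime_two⟩
  have hmap : (commutator G).map e.toMonoidHom = commutator H := by
    rw [commutator_def, Subgroup.map_commutator, Subgroup.map_top_of_surjective _ e.surjective,
      ← commutator_def]
  let φ : commutator G ≃* commutator H :=
    (e.subgroupMap (commutator G)).trans (MulEquiv.subgroupCongr hmap)
  obtain ⟨R⟩ : Nonempty (Sylow 2 (commutator G)) := inferInstance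
  refine sqDer_sylow (P0 := (R : Subgroup (commutator G)).map φ.toMonoidHom) ?_
    (sqDer_map (h R) _ φ.injective) P
  rw [Subgroup.card_map_of_injective φ.injective, R.card_eq_multiplicity,
    Nat.card_congr φ.toEquiv]

/-- the diagonal form -/
noncomputable def dQ (w : ι → F) : QuadraticForm F (ι → F) := QuadraticMap.weightedSumSquares F w

theorem dQ_apply (w v : ι → F) : dQ w v = ∑ i, w i * (v i * v i) := by
  simp [dQ, QuadraticMap.weightedSumSquares_apply]

theorem dQ_polar (w u v : ι → F) :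
    QuadraticMap.polar (dQ w) u v = 2 * ∑ i, w i * (u i * v i) := by
  simp only [QuadraticMap.polar, dQ_apply, Finset.mul_sum, ← Finset.sum_sub_distrib, Pi.add_apply]
  exact Finset.sum_congr rfl fun i _ => by ring

theorem dQ_single (w : ι → F) (i : ι) : dQ w (Pi.single i 1) = w i := by
  simp [dQ_apply, Pi.single_apply]

theorem dQ_nondeg (h2 : (2 : F) ≠ 0) {w : ι → F} (hw : ∀ i, w i ≠ 0) :
    (QuadraticMap.polarBilin (dQ w)).Nondegenerate := by
  have h : ∀ x, (∀ y, QuadraticMap.polar (dQ w) x y = 0) → x = 0 := by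
    intro x hx
    funext i
    have := hx (Pi.single i 1)
    simpa [dQ_polar, Pi.single_apply, h2, hw i] using this
  exact ⟨fun x hx => h x hx, fun x hx => h x fun y =>
    (QuadraticMap.polar_comm _ x y).trans (hx y)⟩

theorem discr_dQ (w : ι → F) : discr (dQ w) = ∏ i, 2 * w i := by
  rw [discr_eq_of (A := Matrix.diagonal fun i => 2 * w i) (fun i j => ?_), Matrix.det_diagonal]
  rw [dQ_polar]
  by_cases h : i = j
  · subst h; simp [Pi.single_apply]
  · simp [Pi.single_apply, h, Ne.symm h, eq_comm]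

theorem discr_plus (m : ℕ) : discr (plusQ F m) = (-1) ^ m := by
  rw [← Disc.det_swap_blocks (F := F) m]
  refine discr_eq_of fun i j => ?_
  rcases i with i | i <;> rcases j with j | j <;>
    simp [plusQ_polar, Pi.single_apply, Matrix.one_apply, eq_comm]

theorem discr_odd (m : ℕ) : discr (oddQ F m) = 2 * (-1) ^ m := by
  rw [discr_eq_of (A := Matrix.fromBlocks (Matrix.of fun _ _ : Unit => (2 : F)) 0 0
    (Matrix.fromBlocks 0 1 1 0 : Matrix (Fin m ⊕ Fin m) (Fin m ⊕ Fin m) F)) (fun i j => ?_),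
    Matrix.det_fromBlocks_zero₂₁, Disc.det_swap_blocks]
  · simp
  · rw [oddQ_polar, plusQ_polar]
    rcases i with i | i | i <;> rcases j with j | j | j <;>
      simp [Pi.single_apply, Matrix.one_apply, Function.comp_def, eq_comm]

theorem discr_min (k : ℕ) (a b : F) : discr (minQ F k a b) = (-1) ^ k * (4 * b - a ^ 2) := by
  rw [discr_eq_of (A := Matrix.fromBlocks
    (Matrix.fromBlocks 0 1 1 0 : Matrix (Fin k ⊕ Fin k) (Fin k ⊕ Fin k) F) 0 0
    !![2, a; a, 2 * b]) (fun i j => ?_), Matrix.det_fromBlocks_zero₂₁, Disc.det_swap_blocks,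
    Matrix.det_fin_two_of]
  · ring
  · rw [minQ_polar, plusQ_polar]
    rcases i with (i | i) | i <;> rcases j with (j | j) | j <;>
      simp [Pi.single_apply, Matrix.one_apply, Function.comp_def, eq_comm] <;>
      fin_cases i <;> fin_cases j <;> simp <;> ring

/-- the discriminant of an anisotropic binary form -/
theorem not_isSquare_disc (h2 : (2 : F) ≠ 0) {a b : F}
    (hab : ∀ z₁ z₂ : F, z₁ ^ 2 + a * z₁ * z₂ + b * z₂ ^ 2 = 0 → z₁ = 0 ∧ z₂ = 0) :
    ¬ IsSquare (a ^ 2 - 4 * b) := by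
  rintro ⟨r, hr⟩
  have h := (hab ((r - a) / 2) 1 (by field_simp; linear_combination -hr)).2
  exact one_ne_zero h

end Cfsg.Agent.SylowAb
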