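import Mathlib
import Cfsg.Agent.Lib.SylowAb.Basic
import Cfsg.Agent.Lib.SylowAb.OctonionSplit
import Cfsg.Agent.Lib.Classical.SylowSL2
import Cfsg.Agent.Lib.Classical.SylowWreathSq

/-!
# Sylow `2`-subgroups of `G₂(q)`, `q` odd
-/

set_option autoImplicit false

namespace Cfsg.Agent.SylowAb.Octonion

open Matrix
open scoped commutatorElement

variable {F : Type*} [Field F] [Fintype F]

/-- a Sylow subgroup meets a normal subgroup in a Sylow subgroup -/
theorem exists_sylow_inf {G : Type*} [Group G] [Finite G] (W : Sylow 2 G) (N : Subgroup G)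
    [N.Normal] : ∃ R : Sylow 2 N, (R : Subgroup N) = (W : Subgroup G).subgroupOf N := by
  have : Fact (Nat.Prime 2) := ⟨Nat.prime_two⟩
  have hP : IsPGroup 2 ((W : Subgroup G).subgroupOf N) :=
    W.2.comap_of_injective N.subtype N.subtype_injective
  refine ⟨hP.toSylow ?_, rfl⟩
  intro h
  change 2 ∣ (W : Subgroup G).relIndex N at h
  refine W.not_dvd_index (dvd_trans h ?_)
  obtain ⟨k, hk⟩ := Subgroup.relIndex_dvd_index_of_normal N (W : Subgroup G)
  refine Dvd.intro k ?_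
  have h1 : N.relIndex (W : Subgroup G) * (W : Subgroup G).index =
      (W : Subgroup G).relIndex N * N.index := by
    rw [← Subgroup.inf_relIndex_right N, Subgroup.relIndex_mul_index inf_le_right,
      ← Subgroup.inf_relIndex_right (W : Subgroup G), Subgroup.relIndex_mul_index inf_le_right,
      inf_comm]
  have h0 : N.relIndex (W : Subgroup G) ≠ 0 := Subgroup.index_ne_zero_of_finite
  refine Nat.eq_of_mul_eq_mul_left (Nat.pos_of_ne_zero h0) ?_
  rw [h1, hk]
  ring

/-- diagonal matrices -/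
def diag2 : Fˣ × Fˣ →* GL (Fin 2) F :=
  MonoidHom.toHomUnits
    { toFun := fun u => !![(u.1 : F), 0; 0, (u.2 : F)]
      map_one' := by ext i j; fin_cases i <;> fin_cases j <;> simp
      map_mul' := fun u v => by
        ext i j; fin_cases i <;> fin_cases j <;> simp [Matrix.mul_apply, Fin.sum_univ_two] }

omit [Fintype F] in
theorem diag2_coe (u : Fˣ × Fˣ) :
    (diag2 u : Matrix (Fin 2) (Fin 2) F) = !![(u.1 : F), 0; 0, (u.2 : F)] := rfl

omit [Fintype F] in
theorem det_diag2 (u : Fˣ × Fˣ) : Matrix.GeneralLinearGroup.det (diag2 u) = u.1 * u.2 := by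
  refine Units.ext ?_
  show (diag2 u : Matrix (Fin 2) (Fin 2) F).det = _
  simp [diag2_coe, Matrix.det_fin_two]

/-- the coordinate swap -/
def swp : GL (Fin 2) F :=
  ⟨!![0, 1; 1, 0], !![0, 1; 1, 0],
    by ext i j; fin_cases i <;> fin_cases j <;> simp [Matrix.mul_apply, Fin.sum_univ_two],
    by ext i j; fin_cases i <;> fin_cases j <;> simp [Matrix.mul_apply, Fin.sum_univ_two]⟩

omit [Fintype F] in
theorem swp_conj (u : Fˣ × Fˣ) : swp * diag2 u * swp⁻¹ = diag2 (u.2, u.1) := by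
  rw [mul_inv_eq_iff_eq_mul]
  refine Units.ext ?_
  rw [Units.val_mul, Units.val_mul, diag2_coe, diag2_coe]
  show !![0, 1; 1, 0] * !![(u.1 : F), 0; 0, (u.2 : F)] = !![(u.2 : F), 0; 0, (u.1 : F)] * !![0, 1; 1, 0]
  ext i j; fin_cases i <;> fin_cases j <;> simp [Matrix.mul_apply, Fin.sum_univ_two]

omit [Fintype F] in
theorem swp_sq : (swp : GL (Fin 2) F) * swp = 1 := Units.ext (swp : GL (Fin 2) F).mul_inv

/-- the determinant on pairs, compared -/
def detDiff : GL (Fin 2) F × GL (Fin 2) F →* Fˣ :=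
  Matrix.GeneralLinearGroup.det.comp (MonoidHom.fst _ _) /
    Matrix.GeneralLinearGroup.det.comp (MonoidHom.snd _ _)

omit [Fintype F] in
theorem detEq_normal : (detEq F).Normal := by
  have h : detEq F = (detDiff (F := F)).ker := by
    ext p
    rw [mem_detEq, MonoidHom.mem_ker]
    simp [detDiff, div_eq_one]
  rw [h]
  infer_instance

omit [Fintype F] in
/-- centralisers of non-scalar matrices are commutative -/
theorem scalar_or_comm (a : Mt F) :
    (∃ c : F, a = c • 1) ∨ ∀ x y : Mt F, Commute a x → Commute a y → Commute x y := by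
  by_cases h : a 0 1 = 0 ∧ a 1 0 = 0 ∧ a 0 0 = a 1 1
  · refine Or.inl ⟨a 0 0, ?_⟩
    ext i j; fin_cases i <;> fin_cases j <;> simp [h.1, h.2.1, h.2.2]
  · refine Or.inr fun x y hx hy => ?_
    let V : Mt F → Fin 3 → F := fun z => ![z 0 1, z 1 0, z 0 0 - z 1 1]
    have hV : ∀ z, Commute a z → ∀ i j, V z i * V a j = V z j * V a i := by
      intro z hz i j
      have e00 := congrFun (congrFun hz.eq 0) 0
      have e01 := congrFun (congrFun hz.eq 0) 1
      have e10 := congrFun (congrFun hz.eq 1) 0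
      simp [Matrix.mul_apply, Fin.sum_univ_two] at e00 e01 e10
      fin_cases i <;> fin_cases j <;> simp [V] <;>
        first | ring1 | linear_combination e00 | linear_combination -e00 | linear_combination e01 |
          linear_combination -e01 | linear_combination e10 | linear_combination -e10
    obtain ⟨k, hk⟩ : ∃ k, V a k ≠ 0 := by
      by_contra hall
      push Not at hall
      exact h ⟨hall 0, hall 1, sub_eq_zero.1 (hall 2)⟩
    have hpar : ∀ i j, V x i * V y j = V x j * V y i := fun i j => by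
      refine mul_left_cancel₀ (mul_ne_zero hk hk) ?_
      linear_combination (V a k * V y j) * hV x hx i k + (V x k * V a i) * hV y hy j k -
        (V a k * V y i) * hV x hx j k - (V x k * V a j) * hV y hy i k
    have p01 := hpar 0 1
    have p02 := hpar 0 2
    have p12 := hpar 1 2
    simp [V] at p01 p02 p12
    show x * y = y * x
    ext i j
    fin_cases i <;> fin_cases j <;> simp [Matrix.mul_apply, Fin.sum_univ_two]
    · linear_combination p01
    · linear_combination -p02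
    · linear_combination p12
    · linear_combination -p01

omit [Fintype F] in
theorem emb_central (p : detEq F) (ha : ∃ c : F, (p.1.1 : Mt F) = c • 1)
    (hb : ∃ c : F, (p.1.2 : Mt F) = c • 1) (hne : emb p ≠ 1) : emb p = invol F := by
  obtain ⟨c, hc⟩ := ha
  obtain ⟨d, hd⟩ := hb
  have hcd : c * c = d * d := by
    have := det_eq p
    rw [hc, hd] at this
    simpa [Matrix.det_fin_two, sq] using this
  rcases mul_self_eq_mul_self_iff.1 hcd with rfl | rfl
  · exact absurd (emb_scalar c hc (Units.ext (hd.trans hc.symm))) hne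
  · have hmul : emb (p * invPair) = 1 := emb_scalar (-d) (by
      show ((p.1.1 * 1 : GL (Fin 2) F) : Mt F) = _
      rw [mul_one, hc]) (Units.ext (by
      show ((p.1.2 * -1 : GL (Fin 2) F) : Mt F) = ((p.1.1 * 1 : GL (Fin 2) F) : Mt F)
      rw [mul_one, hc, Units.val_mul, hd, Units.val_neg, Units.val_one]
      simp))
    rw [map_mul, mul_eq_one_iff_eq_inv] at hmul
    rw [hmul, invol, ← map_inv]
    congr 1

set_option maxHeartbeats 1600000 in
/-- a Sylow subgroup of `G₂` with the property -/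
theorem sqDer_g2 (hF : Odd (Fintype.card F)) (P : Sylow 2 (Cfsg.Lie.G2 F)) :
    SqDer (P : Subgroup (Cfsg.Lie.G2 F)) := by
  classical
  have : Fact (Nat.Prime 2) := ⟨Nat.prime_two⟩
  have h2 : (2 : F) ≠ 0 := Cfsg.Agent.Classical.SylowSL2.two_ne_zero_of_odd hF
  obtain ⟨μ⟩ : Nonempty (Sylow 2 Fˣ) := inferInstance
  -- a two-group of monomial matrices
  let B : Subgroup (GL (Fin 2) F) :=
    ((μ : Subgroup Fˣ).prod (μ : Subgroup Fˣ)).map diag2
  have hB : IsPGroup 2 B := by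
    refine IsPGroup.map ?_ _
    refine IsPGroup.iff_card.2 ?_
    obtain ⟨n, hn⟩ := IsPGroup.iff_card.1 μ.isPGroup'
    exact ⟨n + n, by rw [Nat.card_congr ((μ : Subgroup Fˣ).prodEquiv _).toEquiv, Nat.card_prod, hn,
      pow_add]⟩
  have hw : IsPGroup 2 (Subgroup.zpowers (swp : GL (Fin 2) F)) := fun x => ⟨1, by
    obtain ⟨k, hk⟩ := Subgroup.mem_zpowers_iff.1 x.2
    refine Subtype.ext ?_
    show (x : GL (Fin 2) F) ^ 2 = 1
    rw [← hk, sq, ← (Commute.refl _).mul_zpow, swp_sq, _root_.one_zpow]⟩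
  have hnB : Subgroup.zpowers (swp : GL (Fin 2) F) ≤ Subgroup.normalizer (B : Set (GL (Fin 2) F)) := by
    rw [Subgroup.zpowers_le, Subgroup.mem_normalizer_iff]
    have hi : (swp : GL (Fin 2) F)⁻¹ = swp := inv_eq_of_mul_eq_one_right swp_sq
    have key : ∀ x ∈ B, swp * x * (swp : GL (Fin 2) F)⁻¹ ∈ B := by
      rintro _ ⟨u, hu, rfl⟩
      exact ⟨(u.2, u.1), ⟨hu.2, hu.1⟩, (swp_conj u).symm⟩
    intro x
    refine ⟨key x, fun hx => ?_⟩
    have := key _ hx
    rwa [hi, show swp * (swp * x * swp) * swp = (swp * swp) * x * (swp * swp : GL (Fin 2) F) by group,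
      swp_sq, one_mul, mul_one] at this
  obtain ⟨W, hW⟩ := (hw.to_sup_of_normal_right' hB hnB).exists_le_sylow
  have hWd : ∀ t ∈ (μ : Subgroup Fˣ), ∀ s ∈ (μ : Subgroup Fˣ), diag2 (t, s) ∈ (W : Subgroup _) :=
    fun t ht s hs => hW (Subgroup.mem_sup_right ⟨(t, s), ⟨ht, hs⟩, rfl⟩)
  have hWw : swp ∈ (W : Subgroup (GL (Fin 2) F)) :=
    hW (Subgroup.mem_sup_left (Subgroup.mem_zpowers _))
  have hdet : ∀ a ∈ (W : Subgroup (GL (Fin 2) F)),
      Matrix.GeneralLinearGroup.det a ∈ (μ : Subgroup Fˣ) := by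
    intro a ha
    have := Sylow.unique_of_normal μ inferInstance
    obtain ⟨μ', hμ'⟩ := (W.2.map Matrix.GeneralLinearGroup.det).exists_le_sylow
    rw [Subsingleton.elim μ μ']
    exact hμ' ⟨a, ha, rfl⟩
  -- the determinant one part of `W`
  obtain ⟨R, hR⟩ := exists_sylow_inf W (Matrix.GeneralLinearGroup.det (n := Fin 2) (R := F)).ker
  let Q : Subgroup (GL (Fin 2) F) :=
    (W : Subgroup _) ⊓ (Matrix.GeneralLinearGroup.det (n := Fin 2) (R := F)).ker
  let iot : Matrix.SpecialLinearGroup (Fin 2) F →*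
      (Matrix.GeneralLinearGroup.det (n := Fin 2) (R := F)).ker :=
    Matrix.SpecialLinearGroup.toGL.codRestrict _ fun x => Units.ext (by simp)
  have hiot : Function.Bijective iot := by
    refine ⟨fun x y h => Subtype.ext (congrArg (fun z => ((z.1 : GL (Fin 2) F) : Mt F)) h), ?_⟩
    rintro ⟨g, hg⟩
    exact ⟨⟨(g : Mt F), congrArg Units.val hg⟩, Subtype.ext (Units.ext rfl)⟩
  let e := MulEquiv.ofBijective iot hiot
  let R' : Sylow 2 (Matrix.SpecialLinearGroup (Fin 2) F) :=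
    R.comapOfKerIsPGroup e.toMonoidHom
      (IsPGroup.of_bot.to_le ((MonoidHom.ker_eq_bot_iff e.toMonoidHom).2 e.injective).le)
      (fun x _ => e.surjective x)
  have hR'eq : (R' : Subgroup _).map Matrix.SpecialLinearGroup.toGL = Q := by
    ext g
    constructor
    · rintro ⟨x, hx, rfl⟩
      have hx' : e x ∈ (R : Subgroup _) := hx
      rw [hR, Subgroup.mem_subgroupOf] at hx'
      exact ⟨hx', (iot x).2⟩
    · rintro ⟨hgW, hgd⟩
      refine ⟨e.symm ⟨g, hgd⟩, ?_, ?_⟩
      · show e (e.symm ⟨g, hgd⟩) ∈ (R : Subgroup _)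
        rw [MulEquiv.apply_symm_apply, hR, Subgroup.mem_subgroupOf]
        exact hgW
      · exact congrArg Subtype.val (e.apply_symm_apply ⟨g, hgd⟩)
  have hR'sq : SqDer (R' : Subgroup (Matrix.SpecialLinearGroup (Fin 2) F)) :=
    fun x => Cfsg.Agent.Classical.WreathSq.sqComm_SL2_sylow hF R' x
  have hinj : Function.Injective
      (Matrix.SpecialLinearGroup.toGL : Matrix.SpecialLinearGroup (Fin 2) F →* GL (Fin 2) F) :=
    fun x y h => Subtype.ext (congrArg Units.val h)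
  have hQ : SqDer Q := hR'eq ▸ sqDer_map hR'sq _ hinj
  obtain ⟨qa, qb, hqa, hqb, hqab⟩ :
      ∃ qa qb : GL (Fin 2) F, qa ∈ Q ∧ qb ∈ Q ∧ ¬ Commute qa qb := by
    obtain ⟨⟨ψ⟩, h3⟩ := Cfsg.Agent.Classical.SylowSL2.sylow_two hF R'
    refine ⟨Matrix.SpecialLinearGroup.toGL (ψ.symm (QuaternionGroup.a 1)).1,
      Matrix.SpecialLinearGroup.toGL (ψ.symm (QuaternionGroup.xa 0)).1,
      hR'eq ▸ ⟨_, (ψ.symm _).2, rfl⟩, hR'eq ▸ ⟨_, (ψ.symm _).2, rfl⟩, fun h => ?_⟩
    have h' : ψ.symm (QuaternionGroup.a 1 * QuaternionGroup.xa 0) =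
        ψ.symm (QuaternionGroup.xa 0 * QuaternionGroup.a 1) := by
      rw [map_mul, map_mul]
      refine Subtype.ext (Subtype.ext ?_)
      exact congrArg Units.val h.eq
    have h'' := ψ.symm.injective h'
    simp only [QuaternionGroup.a_mul_xa, QuaternionGroup.xa_mul_a, QuaternionGroup.xa.injEq,
      zero_sub, zero_add] at h''
    rw [neg_eq_iff_add_eq_zero, ← Nat.cast_one, ← Nat.cast_add, ZMod.natCast_eq_zero_iff] at h''
    have := Nat.le_of_dvd (by norm_num) h''
    set k := 2 ^ _ with hk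
    have : 2 ≤ k := by
      rw [hk]; exact Nat.le_self_pow (by omega) 2
    omega
  -- the Sylow subgroup of the pairs
  have := detEq_normal (F := F)
  obtain ⟨WW, hWW⟩ := (show IsPGroup 2 ((W : Subgroup (GL (Fin 2) F)).prod (W : Subgroup (GL (Fin 2) F))) from by
    refine IsPGroup.iff_card.2 ?_
    obtain ⟨n, hn⟩ := IsPGroup.iff_card.1 W.isPGroup'
    exact ⟨n + n, by rw [Nat.card_congr (Subgroup.prodEquiv (W : Subgroup (GL (Fin 2) F)) (W : Subgroup (GL (Fin 2) F))).toEquiv, Nat.card_prod, hn,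
      pow_add]⟩).exists_le_sylow
  have hWW' : (WW : Subgroup _) = (W : Subgroup (GL (Fin 2) F)).prod (W : Subgroup (GL (Fin 2) F)) := by
    refine le_antisymm (fun x hx => ⟨?_, ?_⟩) hWW
    · rw [← W.3 (WW.2.map (MonoidHom.fst _ _))
        fun y hy => ⟨(y, 1), hWW ⟨hy, one_mem _⟩, rfl⟩]
      exact ⟨x, hx, rfl⟩
    · rw [← W.3 (WW.2.map (MonoidHom.snd _ _))
        fun y hy => ⟨(1, y), hWW ⟨one_mem _, hy⟩, rfl⟩]
      exact ⟨x, hx, rfl⟩
  obtain ⟨S, hS⟩ := exists_sylow_inf WW (detEq F)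
  have memS : ∀ p : detEq F, p ∈ (S : Subgroup _) ↔ p.1.1 ∈ (W : Subgroup _) ∧ p.1.2 ∈ (W : Subgroup _) := by
    intro p
    rw [hS, Subgroup.mem_subgroupOf, hWW']
    rfl
  let P0 : Subgroup (Cfsg.Lie.G2 F) := (S : Subgroup _).map emb
  let mk : ∀ a b : GL (Fin 2) F,
      Matrix.GeneralLinearGroup.det a = Matrix.GeneralLinearGroup.det b → detEq F :=
    fun a b h => ⟨(a, b), mem_detEq.2 h⟩
  have hQ1 : ∀ q ∈ Q, Matrix.GeneralLinearGroup.det q = 1 := fun q hq => hq.2
  let inL : Q →* detEq F :=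
    { toFun := fun q => mk q.1 1 (by rw [hQ1 _ q.2, map_one])
      map_one' := rfl
      map_mul' := fun x y => Subtype.ext (Prod.ext rfl (one_mul _).symm) }
  let inR : Q →* detEq F :=
    { toFun := fun q => mk 1 q.1 (by rw [hQ1 _ q.2, map_one])
      map_one' := rfl
      map_mul' := fun x y => Subtype.ext (Prod.ext (one_mul _).symm rfl) }
  have inL_mem : ∀ q, emb (inL q) ∈ P0 := fun q =>
    ⟨_, (memS _).2 ⟨q.2.1, one_mem _⟩, rfl⟩
  have inR_mem : ∀ q, emb (inR q) ∈ P0 := fun q =>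
    ⟨_, (memS _).2 ⟨one_mem _, q.2.1⟩, rfl⟩
  let dd : ↥(μ : Subgroup Fˣ) → detEq F := fun t => mk (diag2 (t, 1)) (diag2 (t, 1)) rfl
  have dd_mem : ∀ t, emb (dd t) ∈ P0 := fun t =>
    ⟨_, (memS _).2 ⟨hWd _ t.2 _ (one_mem _), hWd _ t.2 _ (one_mem _)⟩, rfl⟩
  have hcomm : ∀ (f : Q →* detEq F), (∀ q, emb (f q) ∈ P0) → ∀ q, (emb (f q)) ^ 2 ∈ ⁅P0, P0⁆ := by
    intro f hf q
    have h : ((emb).comp f) (q ^ 2) ∈ (commutator Q).map ((emb).comp f) :=
      Subgroup.mem_map_of_mem _ (hQ q)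
    rw [map_pow, commutator_def, Subgroup.map_commutator] at h
    refine Subgroup.commutator_mono ?_ ?_ h <;>
      (rintro _ ⟨x, -, rfl⟩; exact hf x)
  let gen : Set (Cfsg.Lie.G2 F) :=
    Set.range (fun q => emb (inL q)) ∪ Set.range (fun q => emb (inR q)) ∪
      Set.range (fun t => emb (dd t))
  have hgen : P0 = Subgroup.closure gen := by
    apply le_antisymm
    · rintro _ ⟨p, hp, rfl⟩
      obtain ⟨ha, hb⟩ := (memS p).1 hp
      set t : (μ : Subgroup Fˣ) := ⟨_, hdet _ ha⟩ with ht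
      have htW : diag2 ((t : Fˣ), 1) ∈ (W : Subgroup _) := hWd _ t.2 _ (one_mem _)
      have q1 : p.1.1 * (diag2 ((t : Fˣ), 1))⁻¹ ∈ Q := ⟨(W : Subgroup (GL (Fin 2) F)).mul_mem ha ((W : Subgroup (GL (Fin 2) F)).inv_mem htW), by
        show Matrix.GeneralLinearGroup.det (p.1.1 * (diag2 ((t : Fˣ), 1))⁻¹) = 1
        rw [map_mul, map_inv, det_diag2, mul_one]
        exact mul_inv_cancel _⟩
      have q2 : p.1.2 * (diag2 ((t : Fˣ), 1))⁻¹ ∈ Q := ⟨(W : Subgroup (GL (Fin 2) F)).mul_mem hb ((W : Subgroup (GL (Fin 2) F)).inv_mem htW), by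
        show Matrix.GeneralLinearGroup.det (p.1.2 * (diag2 ((t : Fˣ), 1))⁻¹) = 1
        rw [map_mul, map_inv, det_diag2, mul_one,
          ← mem_detEq.1 p.2]
        exact mul_inv_cancel _⟩
      have hp' : p = inL ⟨_, q1⟩ * inR ⟨_, q2⟩ * dd t := Subtype.ext (Prod.ext
        (show p.1.1 = p.1.1 * (diag2 ((t : Fˣ), 1))⁻¹ * 1 * diag2 ((t : Fˣ), 1) by group)
        (show p.1.2 = 1 * (p.1.2 * (diag2 ((t : Fˣ), 1))⁻¹) * diag2 ((t : Fˣ), 1) by group))
      rw [hp', map_mul, map_mul]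
      exact mul_mem (mul_mem (Subgroup.subset_closure (Or.inl (Or.inl ⟨_, rfl⟩)))
        (Subgroup.subset_closure (Or.inl (Or.inr ⟨_, rfl⟩))))
        (Subgroup.subset_closure (Or.inr ⟨_, rfl⟩))
    · rw [Subgroup.closure_le]
      rintro _ ((⟨q, rfl⟩ | ⟨q, rfl⟩) | ⟨t, rfl⟩)
      exacts [inL_mem q, inR_mem q, dd_mem t]
  have hsq : SqDer P0 := by
    refine sqDer_closure hgen ?_
    rintro _ ((⟨q, rfl⟩ | ⟨q, rfl⟩) | ⟨t, rfl⟩)
    · exact hcomm inL inL_mem q
    · exact hcomm inR inR_mem q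
    · let ww : detEq F := mk swp swp rfl
      have hww : emb ww ∈ P0 := ⟨_, (memS _).2 ⟨hWw, hWw⟩, rfl⟩
      have h := Subgroup.commutator_mem_commutator (dd_mem t) hww
      let sc : detEq F := mk (diag2 ((t : Fˣ), (t : Fˣ))) (diag2 ((t : Fˣ), (t : Fˣ))) rfl
      have hsc : emb sc = 1 := emb_scalar ((t : Fˣ) : F) (by
        show (diag2 ((t : Fˣ), (t : Fˣ)) : Mt F) = _
        rw [diag2_coe]
        ext i j; fin_cases i <;> fin_cases j <;> simp) rfl
      have e : emb (dd t) ^ 2 = ⁅emb (dd t), emb ww⁆ * emb sc := by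
        rw [← map_commutatorElement, ← map_mul, ← map_pow]
        congr 1
        have key : diag2 ((t : Fˣ), (1 : Fˣ)) ^ 2 = diag2 ((t : Fˣ), 1) * swp *
            (diag2 ((t : Fˣ), (1 : Fˣ)))⁻¹ * swp⁻¹ * diag2 ((t : Fˣ), (t : Fˣ)) := by
          rw [← map_inv, mul_assoc (diag2 _) swp, mul_assoc (diag2 _) (swp * _), swp_conj,
            ← map_mul, ← map_mul, ← map_pow]
          congr 1
          refine Prod.ext ?_ ?_ <;> simp [sq]
        exact Subtype.ext (Prod.ext key key)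
      rw [e, hsc, mul_one]
      exact h
  -- the centre
  have hcent : ∀ z ∈ P0, (∀ x ∈ P0, Commute z x) → z ≠ 1 → z = invol F := by
    rintro _ ⟨p, hp, rfl⟩ hz hne
    have hq : ∀ q : Q, Commute p.1.1 q.1 ∧ Commute p.1.2 q.1 := fun q => by
      constructor
      · have h := (hz _ (inL_mem q)).eq
        obtain ⟨c, h1, h3⟩ := emb_eq_one (p := p * inL q * (inL q * p)⁻¹)
          (by rw [map_mul, map_inv, map_mul, map_mul, h, mul_inv_cancel])
        have h3' : p.1.2 * 1 * (1 * p.1.2)⁻¹ = p.1.1 * q.1 * (q.1 * p.1.1)⁻¹ := h3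
        rw [mul_one, one_mul, mul_inv_cancel] at h3'
        exact mul_inv_eq_one.1 h3'.symm
      · have h := (hz _ (inR_mem q)).eq
        obtain ⟨c, h1, h3⟩ := emb_eq_one (p := p * inR q * (inR q * p)⁻¹)
          (by rw [map_mul, map_inv, map_mul, map_mul, h, mul_inv_cancel])
        have h3' : p.1.2 * q.1 * (q.1 * p.1.2)⁻¹ = p.1.1 * 1 * (1 * p.1.1)⁻¹ := h3
        rw [mul_one, one_mul, mul_inv_cancel] at h3'
        exact mul_inv_eq_one.1 h3'
    have hsc : ∀ a : GL (Fin 2) F, (∀ q : Q, Commute a q.1) → ∃ c : F, (a : Mt F) = c • 1 := by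
      intro a ha
      refine (scalar_or_comm (a : Mt F)).resolve_right fun hall => hqab ?_
      exact Units.ext (hall _ _ (congrArg Units.val (ha ⟨qa, hqa⟩).eq)
        (congrArg Units.val (ha ⟨qb, hqb⟩).eq)).eq
    exact emb_central p (hsc _ fun q => (hq q).1) (hsc _ fun q => (hq q).2) hne
  have hP0 : IsPGroup 2 P0 := S.2.map _
  obtain ⟨P1, hP1⟩ := hP0.exists_le_sylow
  have heq : P0 = (P1 : Subgroup (Cfsg.Lie.G2 F)) := by
    by_contra hne
    have : Group.IsNilpotent (P1 : Subgroup (Cfsg.Lie.G2 F)) := P1.isPGroup'.isNilpotent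
    have hlt : P0.subgroupOf (P1 : Subgroup (Cfsg.Lie.G2 F)) < ⊤ := by
      rw [lt_top_iff_ne_top, Ne, Subgroup.subgroupOf_eq_top]
      exact fun h => hne (le_antisymm hP1 h)
    obtain ⟨g, hgN, hgP⟩ := SetLike.exists_of_lt (Group.normalizerCondition_of_isNilpotent _ hlt)
    rw [Subgroup.mem_normalizer_iff] at hgN
    rw [Subgroup.mem_subgroupOf] at hgP
    have hconj : ∀ x ∈ P0, (g : Cfsg.Lie.G2 F) * x * (g : Cfsg.Lie.G2 F)⁻¹ ∈ P0 := fun x hx =>
      Subgroup.mem_subgroupOf.1 ((hgN ⟨x, hP1 hx⟩).1 (Subgroup.mem_subgroupOf.2 hx))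
    have hconj' : ∀ x ∈ P0, (g : Cfsg.Lie.G2 F)⁻¹ * x * (g : Cfsg.Lie.G2 F) ∈ P0 := by
      intro x hx
      have hx' : (g : Cfsg.Lie.G2 F)⁻¹ * x * (g : Cfsg.Lie.G2 F) ∈ (P1 : Subgroup (Cfsg.Lie.G2 F)) :=
        mul_mem (mul_mem (inv_mem g.2) (hP1 hx)) g.2
      refine Subgroup.mem_subgroupOf.1 ((hgN ⟨_, hx'⟩).2 (Subgroup.mem_subgroupOf.2 ?_))
      show (g : Cfsg.Lie.G2 F) * ((g : Cfsg.Lie.G2 F)⁻¹ * x * g) * (g : Cfsg.Lie.G2 F)⁻¹ ∈ P0
      simpa [mul_assoc] using hx
    have htS : invPair ∈ (S : Subgroup (detEq F)) := by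
      refine (memS _).2 ⟨one_mem _, ?_⟩
      have hm1 : (-1 : Fˣ) ∈ (μ : Subgroup Fˣ) := by
        have := Sylow.unique_of_normal μ inferInstance
        obtain ⟨μ', hμ'⟩ := (show IsPGroup 2 (Subgroup.zpowers (-1 : Fˣ)) from fun x => ⟨1, by
          obtain ⟨k, hk⟩ := Subgroup.mem_zpowers_iff.1 x.2
          refine Subtype.ext ?_
          show (x : Fˣ) ^ 2 = 1
          rw [← hk, ← zpow_natCast, ← _root_.zpow_mul, mul_comm, _root_.zpow_mul]
          simp⟩).exists_le_sylow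
        rw [Subsingleton.elim μ μ']
        exact hμ' (Subgroup.mem_zpowers _)
      have := hWd _ hm1 _ hm1
      convert this using 1
      refine Units.ext ?_
      rw [diag2_coe]
      ext i j; fin_cases i <;> fin_cases j <;> simp [invPair]
    have ht : invol F ∈ P0 := ⟨_, htS, rfl⟩
    have htc : ∀ x ∈ P0, Commute (invol F) x := by
      rintro _ ⟨p, -, rfl⟩
      have hc : Commute invPair p := by
        refine Subtype.ext (Prod.ext ?_ ?_)
        · show (1 : GL (Fin 2) F) * p.1.1 = p.1.1 * 1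
          rw [one_mul, mul_one]
        · show (-1 : GL (Fin 2) F) * p.1.2 = p.1.2 * -1
          refine Units.ext ?_
          simp
      exact hc.map emb
    have ht1 : invol F ≠ 1 := fun h => by
      obtain ⟨c, h1, h3⟩ := emb_eq_one h
      have h3v : ((invPair (F := F)).1.2 : Mt F) = ((invPair (F := F)).1.1 : Mt F) := by rw [h3]
      have h3' := congrFun (congrFun h3v 0) 0
      simp [invPair] at h3'
      exact h2 (by linear_combination -h3')
    have hfix : (g : Cfsg.Lie.G2 F) * invol F * (g : Cfsg.Lie.G2 F)⁻¹ = invol F := by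
      refine hcent _ (hconj _ ht) (fun x hx => ?_) (fun h => ht1 ?_)
      · have := (htc _ (hconj' x hx)).map (MulAut.conj (g : Cfsg.Lie.G2 F)).toMonoidHom
        simpa [mul_assoc] using this
      · rw [mul_inv_eq_one] at h
        exact mul_left_cancel (h.trans (mul_one _).symm)
    have hrange := centralizer_le h2 (mul_inv_eq_iff_eq_mul.1 hfix)
    let R1 := S.mapSurjective (f := (emb (F := F)).rangeRestrict) (MonoidHom.rangeRestrict_surjective _)
    have hR1 : (R1 : Subgroup _) = P0.subgroupOf (emb (F := F)).range := by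
      rw [Sylow.coe_mapSurjective]
      ext x
      rw [Subgroup.mem_subgroupOf]
      constructor
      · rintro ⟨p, hp, rfl⟩
        exact ⟨p, hp, rfl⟩
      · rintro ⟨p, hp, hpx⟩
        exact ⟨p, hp, Subtype.ext hpx⟩
    have hmax : (P1 : Subgroup (Cfsg.Lie.G2 F)).subgroupOf (emb (F := F)).range = (R1 : Subgroup _) :=
      R1.3 (P1.2.comap_of_injective _ (emb (F := F)).range.subtype_injective)
        (by rw [hR1]; exact fun x hx => hP1 hx)
    have hmem : (⟨_, hrange⟩ : (emb (F := F)).range) ∈ (R1 : Subgroup _) :=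
      hmax ▸ Subgroup.mem_subgroupOf.2 g.2
    rw [hR1, Subgroup.mem_subgroupOf] at hmem
    exact hgP hmem
  exact sqDer_mulEquiv (P1.equiv P) (heq ▸ hsq)

end Cfsg.Agent.SylowAb.Octonion
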