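import Mathlib
import Cfsg.Agent.Lib.SylowAb.Basic

/-!
# A Sylow `2`-subgroup of a symmetric group generated by involutions
-/

set_option autoImplicit false

namespace Cfsg.Agent.SylowAb

open Equiv

/-- two points joined by an element of `S` -/
def Linked {ι : Type} (S : Set (Perm ι)) (a b : ι) : Prop := ∃ s ∈ S, s a = b

/-- a Sylow `2`-subgroup generated by a set of involutions, transitive in degree `2 ^ j` -/
structure PermSylow (ι : Type) where
  T : Subgroup (Perm ι)
  S : Set (Perm ι)
  gen : T = Subgroup.closure S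
  invol : ∀ s ∈ S, s * s = 1
  card : Nat.card T = 2 ^ (Nat.card ι).factorial.factorization 2
  trans : ∀ j, Nat.card ι = 2 ^ j → ∀ a b : ι, Relation.ReflTransGen (Linked S) a b

/-- transport along a bijection -/
def PermSylow.congr {ι κ : Type} (d : PermSylow ι) (e : ι ≃ κ) : PermSylow κ where
  T := d.T.map e.permCongrHom.toMonoidHom
  S := e.permCongrHom.toMonoidHom '' d.S
  gen := by rw [← MonoidHom.map_closure, ← d.gen]
  invol := by
    rintro _ ⟨s, hs, rfl⟩
    rw [← map_mul, d.invol s hs, map_one]
  card := by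
    rw [Subgroup.card_map_of_injective (fun x y h => e.permCongrHom.injective h), d.card,
      Nat.card_congr e]
  trans j hj a b := by
    rw [← Nat.card_congr e] at hj
    have h := d.trans j hj (e.symm a) (e.symm b)
    have h' : Relation.ReflTransGen (Linked (e.permCongrHom.toMonoidHom '' d.S))
        (e (e.symm a)) (e (e.symm b)) := by
      refine Relation.ReflTransGen.lift e (fun x y (hxy : Linked d.S x y) => ?_) _ _ h
      obtain ⟨s, hs, rfl⟩ := hxy
      exact ⟨e.permCongrHom.toMonoidHom s, ⟨s, hs, rfl⟩, by simp [Equiv.permCongrHom]⟩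
    simpa using h'

theorem v2_factorial_two_mul (m : ℕ) :
    (2 * m).factorial.factorization 2 = m.factorial.factorization 2 + m := by
  rw [Nat.factorization_def _ Nat.prime_two, Nat.factorization_def _ Nat.prime_two]
  have : Fact (Nat.Prime 2) := ⟨Nat.prime_two⟩
  exact padicValNat_factorial_mul m

theorem v2_factorial_two_mul_add_one (m : ℕ) :
    (2 * m + 1).factorial.factorization 2 = m.factorial.factorization 2 + m := by
  rw [Nat.factorial_succ, Nat.factorization_mul (by omega) (Nat.factorial_ne_zero _),
    Finsupp.coe_add, Pi.add_apply, Nat.factorization_eq_zero_of_not_dvd (by omega), zero_add,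
    v2_factorial_two_mul]

section double

variable {ι : Type} [Finite ι]

/-- permuting inside the blocks -/
def flipHom (ι : Type) : (ι → Perm (Fin 2)) →* Perm (ι × Fin 2) where
  toFun f := Equiv.prodCongrRight f
  map_one' := by ext ⟨a, b⟩ <;> simp
  map_mul' f g := by ext ⟨a, b⟩ <;> simp

/-- permuting the blocks -/
def blockHom (ι : Type) : Perm ι →* Perm (ι × Fin 2) where
  toFun σ := Equiv.prodCongr σ (Equiv.refl _)
  map_one' := by ext ⟨a, b⟩ <;> simp
  map_mul' f g := by ext ⟨a, b⟩ <;> simp

theorem flipHom_apply (f : ι → Perm (Fin 2)) (x : ι × Fin 2) :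
    flipHom ι f x = (x.1, f x.1 x.2) := rfl

theorem blockHom_apply (σ : Perm ι) (x : ι × Fin 2) : blockHom ι σ x = (σ x.1, x.2) := rfl

theorem flipHom_injective : Function.Injective (flipHom ι) := by
  intro f g h
  funext i
  ext b
  have := congrArg (fun p : Perm (ι × Fin 2) => (p (i, b)).2) h
  simpa [flipHom_apply] using congrArg Fin.val this

theorem blockHom_injective : Function.Injective (blockHom ι) := by
  intro f g h
  ext i
  have := congrArg (fun p : Perm (ι × Fin 2) => (p (i, 0)).1) h
  simpa [blockHom_apply] using this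

/-- doubling -/
noncomputable def PermSylow.double (d : PermSylow ι) : PermSylow (ι × Fin 2) where
  T := (flipHom ι).range ⊔ d.T.map (blockHom ι)
  S := Set.range (flipHom ι) ∪ blockHom ι '' d.S
  gen := by
    rw [Subgroup.closure_union, ← MonoidHom.coe_range, Subgroup.closure_eq,
      ← MonoidHom.map_closure, ← d.gen]
  invol := by
    rintro _ (⟨f, rfl⟩ | ⟨s, hs, rfl⟩)
    · rw [← map_mul, show f * f = 1 from funext fun i => ?_, map_one]
      have : ∀ p : Perm (Fin 2), p * p = 1 := by decide
      exact this (f i)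
    · rw [← map_mul, d.invol s hs, map_one]
  card := by
    rw [card_sup, ← Nat.card_congr (MonoidHom.ofInjective flipHom_injective).toEquiv,
      Subgroup.card_map_of_injective blockHom_injective, d.card, Nat.card_prod, Nat.card_fun,
      Nat.card_eq_fintype_card (α := Perm (Fin 2)), Fintype.card_perm, Fintype.card_fin,
      Nat.card_eq_fintype_card (α := Fin 2), Fintype.card_fin, mul_comm (Nat.card ι) 2,
      v2_factorial_two_mul, add_comm, pow_add]
    · rfl
    · rintro _ ⟨σ, -, rfl⟩
      rw [Subgroup.mem_normalizer_iff]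
      intro x
      constructor
      · rintro ⟨f, rfl⟩
        refine ⟨f ∘ σ.symm, ?_⟩
        rw [eq_mul_inv_iff_mul_eq]
        ext ⟨a, b⟩ <;> simp [flipHom_apply, blockHom_apply]
      · rintro ⟨f, hf⟩
        refine ⟨f ∘ σ, ?_⟩
        have hx : x = (blockHom ι σ)⁻¹ * flipHom ι f * blockHom ι σ := by rw [hf]; group
        rw [hx, mul_assoc, eq_comm, inv_mul_eq_iff_eq_mul]
        ext ⟨a, b⟩ <;> simp [flipHom_apply, blockHom_apply]
    · rw [Subgroup.disjoint_def]
      rintro _ ⟨f, rfl⟩ ⟨σ, -, hσ⟩
      have hσ1 : σ = 1 := by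
        ext i
        have := congrArg (fun p : Perm (ι × Fin 2) => (p (i, 0)).1) hσ
        simpa [flipHom_apply, blockHom_apply] using this
      rw [← hσ, hσ1, map_one]
  trans j hj := by
    classical
    have : Fintype ι := Fintype.ofFinite ι
    rw [Nat.card_prod, Nat.card_eq_fintype_card (α := Fin 2), Fintype.card_fin] at hj
    obtain ⟨k, rfl⟩ : ∃ k, j = k + 1 := by
      rcases j with - | k
      · rw [pow_zero] at hj; omega
      · exact ⟨k, rfl⟩
    rw [pow_succ] at hj
    have hι : Nat.card ι = 2 ^ k := by omega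
    set S := Set.range (flipHom ι) ∪ blockHom ι '' d.S
    rintro ⟨a, x⟩ ⟨b, y⟩
    have h1 : Relation.ReflTransGen (Linked S) (a, x) (b, x) :=
      Relation.ReflTransGen.lift (r := Linked d.S) (fun i => (i, x)) (fun p q hpq => by
        obtain ⟨s, hs, rfl⟩ := hpq
        exact ⟨blockHom ι s, Or.inr ⟨s, hs, rfl⟩, rfl⟩) _ _ (d.trans k hι a b)
    refine h1.trans (Relation.ReflTransGen.single
      ⟨flipHom ι (fun _ => Equiv.swap x y), Or.inl ⟨_, rfl⟩, ?_⟩)
    simp [flipHom_apply]

end double

/-- adjoining a fixed point to an even degree -/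
noncomputable def PermSylow.succ {ι : Type} [Finite ι] (d : PermSylow ι)
    (he : ∃ m, Nat.card ι = 2 * m ∧ 1 ≤ m) : PermSylow (ι ⊕ Unit) where
  T := d.T.map ((Perm.sumCongrHom ι Unit).comp (MonoidHom.inl _ _))
  S := ((Perm.sumCongrHom ι Unit).comp (MonoidHom.inl _ _)) '' d.S
  gen := by rw [← MonoidHom.map_closure, ← d.gen]
  invol := by
    rintro _ ⟨s, hs, rfl⟩
    rw [← map_mul, d.invol s hs, map_one]
  card := by
    obtain ⟨m, hm, -⟩ := he
    rw [Subgroup.card_map_of_injective (fun x y h =>
      congrArg Prod.fst (Perm.sumCongrHom_injective (α := ι) (β := Unit)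
        (a₁ := (x, 1)) (a₂ := (y, 1)) h)), d.card, Nat.card_sum,
      Nat.card_unique (α := Unit), hm, v2_factorial_two_mul, v2_factorial_two_mul_add_one]
  trans j hj := by
    obtain ⟨m, hm, h1⟩ := he
    rw [Nat.card_sum, Nat.card_unique (α := Unit), hm] at hj
    rcases j with - | j
    · rw [pow_zero] at hj; omega
    · rw [pow_succ] at hj; omega

theorem exists_permSylow (n : ℕ) : Nonempty (PermSylow (Fin n)) := by
  induction n using Nat.strong_induction_on with
  | _ n ih =>
    rcases Nat.lt_or_ge n 2 with h | h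
    · have : Subsingleton (Fin n) := Fin.subsingleton_iff_le_one.2 (by omega)
      refine ⟨⟨⊥, ∅, by simp, by simp, ?_, fun j _ a b => by rw [Subsingleton.elim a b]⟩⟩
      rw [Subgroup.card_bot, Nat.card_eq_fintype_card, Fintype.card_fin]
      interval_cases n <;> simp
    · obtain ⟨d⟩ := ih (n / 2) (by omega)
      rcases Nat.even_or_odd' n with ⟨m, rfl | rfl⟩
      · rw [show 2 * m / 2 = m by omega] at d
        exact ⟨d.double.congr (finProdFinEquiv.trans (finCongr (by ring)))⟩
      · rw [show (2 * m + 1) / 2 = m by omega] at d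
        exact ⟨(d.double.succ ⟨m, by simp [Nat.card_prod]; ring, by omega⟩).congr
          (((finProdFinEquiv.trans (finCongr (by ring : m * 2 = 2 * m))).sumCongr
            (Equiv.ofUnique Unit (Fin 1))).trans finSumFinEquiv)⟩

end Cfsg.Agent.SylowAb
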