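import Mathlib
import Cfsg.Agent.Lib.SylowAb.Perm

/-!
# Block monomial subgroups

`b` embeds a power of `W`, `p` the permutations of the factors.
-/

set_option autoImplicit false

namespace Cfsg.Agent.SylowAb

open Equiv

/-- a block monomial configuration -/
structure Mono (G W : Type*) [Group G] [Group W] (ι : Type) where
  b : (ι → W) →* G
  p : Perm ι →* G
  conj : ∀ (σ : Perm ι) (f : ι → W), p σ * b f = b (f ∘ σ.symm) * p σ
  inj : Function.Injective b
  disj : ∀ (σ : Perm ι) (f : ι → W), b f = p σ → σ = 1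

namespace Mono

variable {G W : Type*} [Group G] [Group W] {ι : Type} [DecidableEq ι] (M : Mono G W ι)

/-- one factor -/
def at' (i : ι) : W →* G := M.b.comp (MonoidHom.mulSingle (fun _ => W) i)

theorem at'_injective (i : ι) : Function.Injective (M.at' i) :=
  M.inj.comp (fun x y h => by simpa using congrFun h i)

theorem at'_apply (i : ι) (w : W) : M.at' i w = M.b (Pi.mulSingle i w) := rfl

theorem conj_at (σ : Perm ι) (i : ι) (w : W) : M.p σ * M.at' i w = M.at' (σ i) w * M.p σ := by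
  rw [at'_apply, M.conj, at'_apply]
  congr 2
  funext j
  simp [Pi.mulSingle_apply, Equiv.symm_apply_eq]

theorem conj_at' (σ : Perm ι) (i : ι) (w : W) :
    M.p σ * M.at' i w * (M.p σ)⁻¹ = M.at' (σ i) w := by
  rw [conj_at, mul_inv_cancel_right]

theorem commute_at {i j : ι} (h : i ≠ j) (w w' : W) : Commute (M.at' i w) (M.at' j w') :=
  ((Pi.mulSingle_commute (f := fun _ : ι => W) h) w w').map M.b

theorem injective_p : Function.Injective M.p :=
  (injective_iff_map_eq_one _).2 fun σ hσ => M.disj σ 1 (by rw [hσ, map_one])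

variable [Fintype ι]

/-- the block monomial subgroup on `W0` and `T` -/
def sub (W0 : Subgroup W) (T : Subgroup (Perm ι)) : Subgroup G :=
  (Subgroup.pi Set.univ fun _ : ι => W0).map M.b ⊔ T.map M.p

omit [DecidableEq ι] in
theorem card_sub (W0 : Subgroup W) (T : Subgroup (Perm ι)) :
    Nat.card ↥(M.sub W0 T) = Nat.card W0 ^ Nat.card ι * Nat.card T := by
  classical
  have hpi : Nat.card ↥(Subgroup.pi Set.univ fun _ : ι => W0) = Nat.card W0 ^ Nat.card ι := by
    rw [← Nat.card_fun]
    exact Nat.card_congr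
      { toFun := fun f i => ⟨f.1 i, f.2 i (Set.mem_univ i)⟩
        invFun := fun f => ⟨fun i => (f i).1, fun i _ => (f i).2⟩
        left_inv := fun f => rfl
        right_inv := fun f => rfl }
  rw [sub, card_sup, Subgroup.card_map_of_injective M.inj, hpi,
    Subgroup.card_map_of_injective M.injective_p]
  · rintro _ ⟨σ, -, rfl⟩
    rw [Subgroup.mem_normalizer_iff]
    intro x
    constructor
    · rintro ⟨f, hf, rfl⟩
      exact ⟨f ∘ σ.symm, fun i _ => hf (σ.symm i) (Set.mem_univ _),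
        by rw [eq_mul_inv_iff_mul_eq, M.conj]⟩
    · rintro ⟨f, hf, hfx⟩
      refine ⟨f ∘ σ, fun i _ => hf (σ i) (Set.mem_univ _), ?_⟩
      have hx : x = (M.p σ)⁻¹ * (M.b f * M.p σ) := by rw [hfx]; group
      rw [hx, eq_inv_mul_iff_mul_eq, M.conj, Function.comp_assoc, Equiv.self_comp_symm,
        Function.comp_id]
  · rw [Subgroup.disjoint_def]
    rintro _ ⟨f, -, rfl⟩ ⟨σ, -, hσ⟩
    rw [← hσ, M.disj σ f hσ.symm, map_one]

/-- generators of the block monomial subgroup -/
theorem sub_eq_closure {W0 : Subgroup W} {A : Set W} (hA : W0 = Subgroup.closure A)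
    {T : Subgroup (Perm ι)} {S : Set (Perm ι)} (hS : T = Subgroup.closure S) :
    M.sub W0 T = Subgroup.closure ((⋃ i, M.at' i '' A) ∪ M.p '' S) := by
  rw [sub, Subgroup.closure_union, hS, MonoidHom.map_closure]
  congr 1
  apply le_antisymm
  · rintro _ ⟨f, hf, rfl⟩
    refine Subgroup.pi_mem_of_mulSingle_mem
      (H := (Subgroup.closure (⋃ i, M.at' i '' A)).comap M.b) f fun i => ?_
    have h1 : M.at' i (f i) ∈ (Subgroup.closure A).map (M.at' i) :=
      Subgroup.mem_map_of_mem _ (hA ▸ hf i (Set.mem_univ i))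
    rw [MonoidHom.map_closure] at h1
    exact Subgroup.closure_mono (Set.subset_iUnion (fun j => M.at' j '' A) i) h1
  · rw [Subgroup.closure_le]
    rintro _ hx
    obtain ⟨i, w, hw, rfl⟩ := Set.mem_iUnion.1 hx
    refine ⟨Pi.mulSingle i w, fun j _ => ?_, rfl⟩
    rcases eq_or_ne j i with rfl | hji
    · rw [Pi.mulSingle_eq_same, hA]; exact Subgroup.subset_closure hw
    · rw [Pi.mulSingle_eq_of_ne hji]; exact one_mem W0

theorem at'_mem {W0 : Subgroup W} (T : Subgroup (Perm ι)) (i : ι) {w : W} (hw : w ∈ W0) :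
    M.at' i w ∈ M.sub W0 T := by
  refine Subgroup.mem_sup_left ⟨Pi.mulSingle i w, fun j _ => ?_, rfl⟩
  rcases eq_or_ne j i with rfl | hji
  · rwa [Pi.mulSingle_eq_same]
  · rw [Pi.mulSingle_eq_of_ne hji]; exact one_mem W0

/-- squares in one factor -/
theorem sq_mem_comm {W0 : Subgroup W} (T : Subgroup (Perm ι)) (i : ι) {w : W}
    (hw : w ^ 2 ∈ ⁅W0, W0⁆) : (M.at' i w) ^ 2 ∈ ⁅M.sub W0 T, M.sub W0 T⁆ := by
  have h : M.at' i (w ^ 2) ∈ (⁅W0, W0⁆).map (M.at' i) := Subgroup.mem_map_of_mem _ hw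
  rw [Subgroup.map_commutator, map_pow] at h
  refine Subgroup.commutator_mono ?_ ?_ h <;>
    (rintro _ ⟨v, hv, rfl⟩; exact M.at'_mem T i hv)

/-- the block monomial subgroup inherits the property -/
theorem sqDer_sub {W0 : Subgroup W} (h : SqDer W0) (d : PermSylow ι) :
    SqDer (M.sub W0 d.T) := by
  refine sqDer_closure (M.sub_eq_closure (W0 := W0) (A := W0) (Subgroup.closure_eq W0).symm d.gen) ?_
  rintro s (hs | ⟨σ, hσ, rfl⟩)
  · obtain ⟨i, w, hw, rfl⟩ := Set.mem_iUnion.1 hs
    refine M.sq_mem_comm d.T i ?_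
    have := (mem_commutator_iff W0 _).1 (h ⟨w, hw⟩)
    simpa using this
  · rw [sq, ← map_mul, d.invol σ hσ, map_one]
    exact one_mem _

/-- the order, when `W0` and `T` are Sylow -/
theorem card_sub_sylow {W0 : Subgroup W} (d : PermSylow ι) {c : ℕ} (hW : Nat.card W0 = 2 ^ c) :
    Nat.card ↥(M.sub W0 d.T) =
      2 ^ (Nat.card ι * c + (Nat.card ι).factorial.factorization 2) := by
  rw [M.card_sub, hW, d.card, ← pow_mul, ← pow_add, mul_comm]

end Mono

end Cfsg.Agent.SylowAb
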