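import Mathlib
import Cfsg.Agent.Lib.SylowAb.Wreath

/-!
# Block monomial matrices
-/

set_option autoImplicit false

namespace Cfsg.Agent.SylowAb

open Matrix Equiv

variable {R : Type*} [CommRing R] {a ι : Type} [Fintype a] [DecidableEq a] [Fintype ι]
  [DecidableEq ι]

/-- the matrix permuting the blocks -/
def pmat (a : Type) [Fintype a] [DecidableEq a] (R : Type*) [CommRing R] (σ : Perm ι) :
    Matrix (a × ι) (a × ι) R :=
  (1 : Matrix (a × ι) (a × ι) R).submatrix id (Equiv.prodCongr (Equiv.refl a) σ)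

theorem mul_pmat (A : Matrix (a × ι) (a × ι) R) (σ : Perm ι) :
    A * pmat a R σ = A.submatrix id (Equiv.prodCongr (Equiv.refl a) σ) := by
  ext x y
  simp [pmat, Matrix.mul_apply, Matrix.submatrix_apply, Matrix.one_apply]

theorem pmat_mul_apply (A : Matrix (a × ι) (a × ι) R) (σ : Perm ι) (x y : a × ι) :
    (pmat a R σ * A) x y = A (x.1, σ.symm x.2) y := by
  rw [Matrix.mul_apply, Finset.sum_eq_single (x.1, σ.symm x.2)]
  · simp [pmat, Matrix.one_apply]
  · intro z _ hz
    have : x ≠ Prod.map id σ z := by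
      rintro rfl
      exact hz (by simp)
    simp [pmat, Matrix.one_apply, this]
  · simp

theorem pmat_one : pmat a R (1 : Perm ι) = 1 := by
  ext ⟨x, i⟩ ⟨y, j⟩
  show (1 : Matrix (a × ι) (a × ι) R) (x, i) (y, j) = _
  rfl

theorem pmat_mul (σ τ : Perm ι) : pmat a R σ * pmat a R τ = pmat a R (σ * τ) := by
  rw [mul_pmat]
  ext ⟨x, i⟩ ⟨y, j⟩
  rfl

theorem pmat_transpose (σ : Perm ι) : (pmat a R σ)ᵀ = pmat a R σ⁻¹ := by
  ext ⟨x, i⟩ ⟨y, j⟩
  simp [pmat, Matrix.one_apply, Prod.ext_iff, Equiv.eq_symm_apply, eq_comm]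

theorem pmat_blockDiagonal (σ : Perm ι) (w : ι → Matrix a a R) :
    pmat a R σ * blockDiagonal w = blockDiagonal (w ∘ σ.symm) * pmat a R σ := by
  ext ⟨x, i⟩ ⟨y, j⟩
  rw [pmat_mul_apply, mul_pmat]
  simp only [Matrix.submatrix_apply, id, Matrix.blockDiagonal_apply, Equiv.prodCongr_apply,
    Prod.map_apply, Equiv.refl_apply, Function.comp_apply]
  by_cases h : σ.symm i = j
  · subst h; simp
  · rw [if_neg h, if_neg]
    rintro rfl
    exact h (σ.symm_apply_apply j)

/-- block diagonal invertible matrices -/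
def blockGL : (ι → GL a R) →* GL (a × ι) R :=
  (Units.map (Matrix.blockDiagonalRingHom a ι R).toMonoidHom).comp
    MulEquiv.piUnits.symm.toMonoidHom

/-- block permutation matrices -/
def permGL : Perm ι →* GL (a × ι) R :=
  MonoidHom.toHomUnits
    { toFun := pmat a R
      map_one' := pmat_one
      map_mul' := fun σ τ => (pmat_mul σ τ).symm }

theorem blockGL_coe (w : ι → GL a R) :
    (blockGL w : Matrix (a × ι) (a × ι) R) = blockDiagonal fun i => (w i : Matrix a a R) := rfl

theorem permGL_coe (σ : Perm ι) : (permGL (a := a) (R := R) σ : Matrix (a × ι) (a × ι) R) = pmat a R σ := rfl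

/-- block monomial matrices -/
def matMono (a ι : Type) [Fintype a] [DecidableEq a] [Fintype ι] [DecidableEq ι] [Nonempty a]
    (R : Type*) [CommRing R] [Nontrivial R] : Mono (GL (a × ι) R) (GL a R) ι where
  b := blockGL
  p := permGL (a := a) (R := R)
  conj σ f := by
    refine Units.ext ?_
    rw [Units.val_mul, Units.val_mul, blockGL_coe, blockGL_coe, permGL_coe]
    exact pmat_blockDiagonal σ _
  inj f g h := by
    funext i
    refine Units.ext ?_
    have h' := congrArg (Units.val) h
    rw [blockGL_coe, blockGL_coe] at h'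
    exact congrFun (Matrix.blockDiagonal_injective h') i
  disj σ f h := by
    obtain ⟨x⟩ := ‹Nonempty a›
    ext j
    by_contra hne
    have h' := congrArg (fun A : GL (a × ι) R => (A : Matrix (a × ι) (a × ι) R) (x, σ j) (x, j)) h
    simp only [blockGL_coe, permGL_coe, Matrix.blockDiagonal_apply] at h'
    rw [if_neg (by simpa using hne)] at h'
    simp [pmat, Matrix.one_apply, Prod.map] at h'

namespace Mono

variable {G H W V : Type*} [Group G] [Group H] [Group W] [Group V] {κ : Type}

/-- pushing forward -/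
def push (M : Mono G W κ) (φ : G →* H) (hφ : Function.Injective φ) : Mono H W κ where
  b := φ.comp M.b
  p := φ.comp M.p
  conj σ f := by
    simp only [MonoidHom.comp_apply, ← map_mul, M.conj]
  inj := hφ.comp M.inj
  disj σ f h := M.disj σ f (hφ h)

/-- restricting the factors -/
def pull (M : Mono G W κ) (ψ : V →* W) (hψ : Function.Injective ψ) : Mono G V κ where
  b := M.b.comp
    { toFun := fun f i => ψ (f i)
      map_one' := funext fun _ => ψ.map_one
      map_mul' := fun f g => funext fun i => ψ.map_mul (f i) (g i) }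
  p := M.p
  conj σ f := M.conj σ fun i => ψ (f i)
  inj := M.inj.comp fun f g h => funext fun i => hψ (congrFun h i)
  disj σ f h := M.disj σ _ h

/-- restricting the target -/
def restrict (M : Mono G W κ) (K : Subgroup G) (hb : ∀ f, M.b f ∈ K) (hp : ∀ σ, M.p σ ∈ K) :
    Mono K W κ where
  b := M.b.codRestrict K hb
  p := M.p.codRestrict K hp
  conj σ f := Subtype.ext (M.conj σ f)
  inj f g h := M.inj (congrArg Subtype.val h)
  disj σ f h := M.disj σ f (congrArg Subtype.val h)

end Mono

end Cfsg.Agent.SylowAb
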