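import Mathlib
import Cfsg.Agent.Lib.SylowAb.Wreath

/-!
# Sylow `2`-subgroups of a derived group of index four

`x` and `y` are two families of reflections; the even products generate a Sylow `2`-subgroup
of the derived group.
-/

set_option autoImplicit false

namespace Cfsg.Agent.SylowAb

open Equiv
open scoped commutatorElement

/-- two families of reflections in a block monomial configuration -/
structure OConfig (G W : Type*) [Group G] [Group W] (ι : Type) [DecidableEq ι] where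
  M : Mono G W ι
  d : PermSylow ι
  J : Type
  J' : Type
  x : J → G
  y : J' → G
  ix : ι → J
  iy : ι → J'
  r : W
  s : W
  hix : ∀ i, x (ix i) = M.at' i r
  hiy : ∀ i, y (iy i) = M.at' i s
  ix_inj : Function.Injective ix
  iy_inj : Function.Injective iy
  invx : ∀ a, x a * x a = 1
  invy : ∀ a, y a * y a = 1
  cxx : ∀ a b, Commute (x a) (x b)
  cyy : ∀ a b, Commute (y a) (y b)
  cxy : ∀ a b, (∀ i, ¬(a = ix i ∧ b = iy i)) → Commute (x a) (y b)
  px : ∀ σ a, ∃ a', M.p σ * x a * (M.p σ)⁻¹ = x a'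
  py : ∀ σ a, ∃ a', M.p σ * y a * (M.p σ)⁻¹ = y a'
  xx : ∀ a b, x a * x b ∈ commutator G
  yy : ∀ a b, y a * y b ∈ commutator G
  pmem : ∀ σ, M.p σ ∈ commutator G

namespace OConfig

variable {G W : Type*} [Group G] [Group W] {ι : Type} [DecidableEq ι] (C : OConfig G W ι)

/-- all reflections and permutations -/
def big : Subgroup G := Subgroup.closure (Set.range C.x ∪ Set.range C.y ∪ C.M.p '' C.d.S)

/-- the square of a pair in one block -/
def rho (i : ι) : G := C.x (C.ix i) * C.y (C.iy i) * C.x (C.ix i) * C.y (C.iy i)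

/-- the generators of the small group -/
def gens : Set G :=
  Set.range C.rho ∪ Set.range (fun p : C.J × C.J => C.x p.1 * C.x p.2) ∪
    Set.range (fun p : C.J' × C.J' => C.y p.1 * C.y p.2) ∪ C.M.p '' C.d.S

/-- the small group -/
def small : Subgroup G := Subgroup.closure C.gens

theorem x_inv (a : C.J) : (C.x a)⁻¹ = C.x a := inv_eq_of_mul_eq_one_right (C.invx a)

theorem y_inv (a : C.J') : (C.y a)⁻¹ = C.y a := inv_eq_of_mul_eq_one_right (C.invy a)

theorem x_mul_x (a : C.J) (z : G) : C.x a * (C.x a * z) = z := by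
  rw [← mul_assoc, C.invx, one_mul]

theorem y_mul_y (a : C.J') (z : G) : C.y a * (C.y a * z) = z := by
  rw [← mul_assoc, C.invy, one_mul]

theorem rho_mem (i : ι) : C.rho i ∈ C.small :=
  Subgroup.subset_closure (Or.inl (Or.inl (Or.inl ⟨i, rfl⟩)))

theorem xx_mem (a b : C.J) : C.x a * C.x b ∈ C.small :=
  Subgroup.subset_closure (Or.inl (Or.inl (Or.inr ⟨(a, b), rfl⟩)))

theorem yy_mem (a b : C.J') : C.y a * C.y b ∈ C.small :=
  Subgroup.subset_closure (Or.inl (Or.inr ⟨(a, b), rfl⟩))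

theorem p_mem {σ : Perm ι} (hσ : σ ∈ C.d.S) : C.M.p σ ∈ C.small :=
  Subgroup.subset_closure (Or.inr ⟨σ, hσ, rfl⟩)

theorem xy_mem (a : C.J) (b : C.J') : C.x a * C.y b * C.x a * C.y b ∈ C.small := by
  classical
  by_cases h : ∃ i, a = C.ix i ∧ b = C.iy i
  · obtain ⟨i, rfl, rfl⟩ := h
    exact C.rho_mem i
  · push Not at h
    have hc : Commute (C.x a) (C.y b) := C.cxy a b fun i hi => h i hi.1 hi.2
    rw [hc.eq, mul_assoc (C.y b), C.invx, mul_one, C.invy]
    exact one_mem _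

theorem small_le_commutator : C.small ≤ commutator G := by
  refine (Subgroup.closure_le _).2 ?_
  rintro g (((⟨i, rfl⟩ | ⟨p, rfl⟩) | ⟨p, rfl⟩) | ⟨σ, -, rfl⟩)
  · have h := Subgroup.commutator_mem_commutator (Subgroup.mem_top (C.x (C.ix i)))
      (Subgroup.mem_top (C.y (C.iy i)))
    rw [commutatorElement_def, x_inv, y_inv] at h
    exact h
  · exact C.xx _ _
  · exact C.yy _ _
  · exact C.pmem σ

theorem small_le_big : C.small ≤ C.big := by
  have hx : ∀ a, C.x a ∈ C.big := fun a => Subgroup.subset_closure (Or.inl (Or.inl ⟨a, rfl⟩))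
  have hy : ∀ a, C.y a ∈ C.big := fun a => Subgroup.subset_closure (Or.inl (Or.inr ⟨a, rfl⟩))
  refine (Subgroup.closure_le _).2 ?_
  rintro g (((⟨i, rfl⟩ | ⟨p, rfl⟩) | ⟨p, rfl⟩) | hg)
  · exact mul_mem (mul_mem (mul_mem (hx _) (hy _)) (hx _)) (hy _)
  · exact mul_mem (hx _) (hx _)
  · exact mul_mem (hy _) (hy _)
  · exact Subgroup.subset_closure (Or.inr hg)

theorem conj_closure {u : G} (hu : u * u = 1)
    (h : ∀ g ∈ C.gens, u * g * u ∈ C.small) {k : G} (hk : k ∈ C.small) :
    u * k * u ∈ C.small := by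
  have huinv : u⁻¹ = u := inv_eq_of_mul_eq_one_right hu
  induction hk using Subgroup.closure_induction with
  | mem g hg => exact h g hg
  | one => rw [mul_one, hu]; exact one_mem _
  | mul a b _ _ ha hb =>
    have := mul_mem ha hb
    rwa [show u * a * u * (u * b * u) = u * a * (u * u) * b * u by group, hu, mul_one,
      mul_assoc u a b] at this
  | inv a _ ha =>
    have := inv_mem ha
    rwa [mul_inv_rev, mul_inv_rev, huinv, ← mul_assoc] at this

theorem conj_x (a : C.J) {k : G} (hk : k ∈ C.small) : C.x a * k * C.x a ∈ C.small := by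
  classical
  refine C.conj_closure (C.invx a) ?_ hk
  rintro g (((⟨i, rfl⟩ | ⟨⟨p, q⟩, rfl⟩) | ⟨⟨p, q⟩, rfl⟩) | ⟨σ, hσ, rfl⟩)
  · by_cases h : a = C.ix i
    · subst h
      have h1 : C.x (C.ix i) * C.rho i * C.x (C.ix i) = (C.rho i)⁻¹ := by
        simp only [rho, mul_inv_rev, x_inv, y_inv, ← mul_assoc, C.invx, one_mul]
      rw [h1]
      exact inv_mem (C.rho_mem i)
    · have c1 : Commute (C.x a) (C.x (C.ix i)) := C.cxx _ _
      have c2 : Commute (C.x a) (C.y (C.iy i)) := C.cxy _ _ fun j ⟨hj, hj'⟩ =>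
        h (by rw [hj, C.iy_inj hj'])
      have c : Commute (C.x a) (C.rho i) := ((c1.mul_right c2).mul_right c1).mul_right c2
      rw [c.eq, mul_assoc, C.invx, mul_one]
      exact C.rho_mem i
  · have c : Commute (C.x a) (C.x p * C.x q) := (C.cxx _ _).mul_right (C.cxx _ _)
    rw [c.eq, mul_assoc, C.invx, mul_one]
    exact C.xx_mem p q
  · have h1 := mul_mem (mul_mem (C.xy_mem a p) (C.yy_mem p q)) (inv_mem (C.xy_mem a q))
    convert h1 using 1
    simp only [mul_inv_rev, x_inv, y_inv]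
    calc C.x a * (C.y p * C.y q) * C.x a
        = C.x a * C.y p * C.x a * (C.y p * C.y p) * (C.y q * C.y q) *
            C.x a * C.y q * C.x a := by
          rw [C.invy, C.invy, mul_one, mul_one, mul_assoc (C.x a * C.y p) (C.x a) (C.x a),
            C.invx, mul_one, mul_assoc (C.x a) (C.y p) (C.y q)]
      _ = _ := by group
  · obtain ⟨a', ha'⟩ := C.px σ a
    have h1 := mul_mem (C.xx_mem a a') (C.p_mem hσ)
    rwa [← ha', show C.x a * (C.M.p σ * C.x a * (C.M.p σ)⁻¹) * C.M.p σ =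
      C.x a * C.M.p σ * C.x a by group] at h1

theorem conj_y (a : C.J') {k : G} (hk : k ∈ C.small) : C.y a * k * C.y a ∈ C.small := by
  classical
  refine C.conj_closure (C.invy a) ?_ hk
  rintro g (((⟨i, rfl⟩ | ⟨⟨p, q⟩, rfl⟩) | ⟨⟨p, q⟩, rfl⟩) | ⟨σ, hσ, rfl⟩)
  · by_cases h : a = C.iy i
    · subst h
      have h1 : C.y (C.iy i) * C.rho i * C.y (C.iy i) = (C.rho i)⁻¹ := by
        simp only [rho, mul_inv_rev, x_inv, y_inv, mul_assoc, C.invy, mul_one]
      rw [h1]
      exact inv_mem (C.rho_mem i)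
    · have c1 : Commute (C.y a) (C.y (C.iy i)) := C.cyy _ _
      have c2 : Commute (C.y a) (C.x (C.ix i)) := (C.cxy _ _ fun j ⟨hj, hj'⟩ =>
        h (by rw [hj', C.ix_inj hj])).symm
      have c : Commute (C.y a) (C.rho i) := ((c2.mul_right c1).mul_right c2).mul_right c1
      rw [c.eq, mul_assoc, C.invy, mul_one]
      exact C.rho_mem i
  · have h1 := mul_mem (mul_mem (inv_mem (C.xy_mem p a)) (C.xx_mem p q)) (C.xy_mem q a)
    convert h1 using 1
    simp only [mul_inv_rev, x_inv, y_inv]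
    calc C.y a * (C.x p * C.x q) * C.y a
        = C.y a * C.x p * C.y a * (C.x p * C.x p) * (C.x q * C.x q) *
            C.y a * C.x q * C.y a := by
          rw [C.invx, C.invx, mul_one, mul_one, mul_assoc (C.y a * C.x p) (C.y a) (C.y a),
            C.invy, mul_one, mul_assoc (C.y a) (C.x p) (C.x q)]
      _ = _ := by group
  · have c : Commute (C.y a) (C.y p * C.y q) := (C.cyy _ _).mul_right (C.cyy _ _)
    rw [c.eq, mul_assoc, C.invy, mul_one]
    exact C.yy_mem p q
  · obtain ⟨a', ha'⟩ := C.py σ a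
    have h1 := mul_mem (C.yy_mem a a') (C.p_mem hσ)
    rwa [← ha', show C.y a * (C.M.p σ * C.y a * (C.M.p σ)⁻¹) * C.M.p σ =
      C.y a * C.M.p σ * C.y a by group] at h1

/-- four cosets -/
def rep (a : C.J) (b : C.J') : Fin 4 → G := ![1, C.x a, C.y b, C.x a * C.y b]

theorem cover (a : C.J) (b : C.J') {z : G} (hz : z ∈ C.big) :
    ∃ k ∈ C.small, ∃ t : Fin 4, z = k * C.rep a b t := by
  have stepx : ∀ w : G, (∃ k ∈ C.small, ∃ t : Fin 4, w = k * C.rep a b t) →
      ∃ k ∈ C.small, ∃ t : Fin 4, C.x a * w = k * C.rep a b t := by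
    rintro w ⟨k, hk, t, rfl⟩
    have hk' := C.conj_x a hk
    refine ⟨_, hk', ![1, 0, 3, 2] t, ?_⟩
    fin_cases t <;> simp [rep, mul_assoc] <;> simp [← mul_assoc, C.invx]
  have stepy : ∀ w : G, (∃ k ∈ C.small, ∃ t : Fin 4, w = k * C.rep a b t) →
      ∃ k ∈ C.small, ∃ t : Fin 4, C.y b * w = k * C.rep a b t := by
    rintro w ⟨k, hk, t, rfl⟩
    have hk' := C.conj_y b hk
    fin_cases t
    · exact ⟨_, hk', 2, by simp [rep, mul_assoc, C.invy]⟩
    · exact ⟨_, mul_mem hk' (inv_mem (C.xy_mem a b)), 3,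
        by simp [rep, mul_assoc, x_inv, y_inv, x_mul_x, y_mul_y, C.invx, C.invy]⟩
    · exact ⟨_, hk', 0, by simp [rep, mul_assoc]⟩
    · refine ⟨_, mul_mem hk' (inv_mem (C.xy_mem a b)), 1, ?_⟩
      simp [rep, mul_assoc, x_inv, y_inv, x_mul_x, y_mul_y, C.invx, C.invy]
  have stepk : ∀ k₀ ∈ C.small, ∀ w : G, (∃ k ∈ C.small, ∃ t : Fin 4, w = k * C.rep a b t) →
      ∃ k ∈ C.small, ∃ t : Fin 4, k₀ * w = k * C.rep a b t := by
    rintro k₀ hk₀ w ⟨k, hk, t, rfl⟩
    exact ⟨k₀ * k, mul_mem hk₀ hk, t, (mul_assoc _ _ _).symm⟩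
  have base : ∀ g ∈ Set.range C.x ∪ Set.range C.y ∪ C.M.p '' C.d.S, g * g = 1 ∧
      ∀ w : G, (∃ k ∈ C.small, ∃ t : Fin 4, w = k * C.rep a b t) →
        ∃ k ∈ C.small, ∃ t : Fin 4, g * w = k * C.rep a b t := by
    rintro g ((⟨a', rfl⟩ | ⟨b', rfl⟩) | ⟨σ, hσ, rfl⟩)
    · refine ⟨C.invx a', fun w hw => ?_⟩
      rw [show C.x a' * w = C.x a' * C.x a * (C.x a * w) by
        rw [mul_assoc, ← mul_assoc (C.x a) (C.x a), C.invx, one_mul]]
      exact stepk _ (C.xx_mem a' a) _ (stepx w hw)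
    · refine ⟨C.invy b', fun w hw => ?_⟩
      rw [show C.y b' * w = C.y b' * C.y b * (C.y b * w) by
        rw [mul_assoc, ← mul_assoc (C.y b) (C.y b), C.invy, one_mul]]
      exact stepk _ (C.yy_mem b' b) _ (stepy w hw)
    · exact ⟨by rw [← map_mul, C.d.invol σ hσ, map_one], fun w hw => stepk _ (C.p_mem hσ) w hw⟩
  induction hz using Subgroup.closure_induction_left with
  | one => exact ⟨1, one_mem _, 0, by simp [rep]⟩
  | mul_left g hg w _ hw => exact (base g hg).2 w hw
  | inv_mul_cancel g hg w _ hw =>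
    rw [inv_eq_of_mul_eq_one_right (base g hg).1]
    exact (base g hg).2 w hw

theorem card_big_le [Finite G] (a : C.J) (b : C.J') : Nat.card C.big ≤ Nat.card C.small * 4 := by
  have h : ∀ z : C.big, ∃ p : C.small × Fin 4, (z : G) = p.1 * C.rep a b p.2 := fun z => by
    obtain ⟨k, hk, t, ht⟩ := C.cover a b z.2
    exact ⟨(⟨k, hk⟩, t), ht⟩
  choose f hf using h
  calc Nat.card C.big ≤ Nat.card (C.small × Fin 4) :=
        Nat.card_le_card_of_injective f fun z z' hzz => Subtype.ext (by rw [hf, hf, hzz])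
    _ = Nat.card C.small * 4 := by
        rw [Nat.card_prod, Nat.card_eq_fintype_card (α := Fin 4), Fintype.card_fin]

theorem pair_comm (i : ι) (a : C.J) (b : C.J')
    (c1 : Commute (C.x a) (C.y (C.iy i))) (c2 : Commute (C.x (C.ix i)) (C.y b)) :
    C.rho i * (C.x a * C.y b * C.x a * C.y b) ∈ ⁅C.small, C.small⁆ := by
  suffices h : C.rho i * (C.x a * C.y b * C.x a * C.y b) =
      ⁅C.x (C.ix i) * C.x a, C.y (C.iy i) * C.y b⁆ from
    h ▸ Subgroup.commutator_mem_commutator (C.xx_mem _ _) (C.yy_mem _ _)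
  simp only [rho, commutatorElement_def, mul_inv_rev, x_inv, y_inv]
  set X := C.x (C.ix i)
  set Y := C.y (C.iy i)
  set A := C.x a
  set B := C.y b
  have cXA : Commute X A := C.cxx _ _
  have cYB : Commute Y B := C.cyy _ _
  have c : Commute (X * Y) (A * B) :=
    (cXA.mul_right c2).mul_left (c1.symm.mul_right cYB)
  have e1 : X * A * (Y * B) = X * Y * (A * B) := by
    rw [show X * A * (Y * B) = X * (A * Y) * B by group, c1.eq]; group
  have e2 : A * X * (B * Y) = A * B * (X * Y) := by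
    rw [show A * X * (B * Y) = A * (X * B) * Y by group, c2.eq]; group
  calc X * Y * X * Y * (A * B * A * B) = X * Y * (X * Y * (A * B)) * (A * B) := by group
    _ = X * Y * (A * B * (X * Y)) * (A * B) := by rw [c.eq]
    _ = X * A * (Y * B) * (A * X * (B * Y)) := by
      rw [e1, e2, ← mul_assoc (X * Y) (A * B) (X * Y), mul_assoc (X * Y * (A * B)) (X * Y) (A * B),
        c.eq]
    _ = _ := by group

/-- the squares of the generators -/
theorem sqDer_small
    (hne : ∀ i, (∃ a b, Commute (C.x a) (C.y (C.iy i)) ∧ Commute (C.x (C.ix i)) (C.y b) ∧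
      Commute (C.x a) (C.y b)) ∨ ∃ σ ∈ C.d.S, σ i ≠ i) : SqDer C.small := by
  refine sqDer_closure (S := C.gens) rfl ?_
  rintro g (((⟨i, rfl⟩ | ⟨⟨p, q⟩, rfl⟩) | ⟨⟨p, q⟩, rfl⟩) | ⟨σ, hσ, rfl⟩)
  · rcases hne i with ⟨a, b, c1, c2, c3⟩ | ⟨σ, hσ, hi⟩
    · have h := C.pair_comm i a b c1 c2
      rw [c3.eq, mul_assoc (C.y b), C.invx, mul_one, C.invy, mul_one] at h
      exact pow_mem h 2
    · set j := σ i
      have hA : C.rho i * C.rho j ∈ ⁅C.small, C.small⁆ :=
        C.pair_comm i (C.ix j) (C.iy j)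
          (C.cxy _ _ fun k ⟨h1, h2⟩ => hi (by
            have e1 := C.ix_inj h1; have e2 := C.iy_inj h2; rw [e1, e2]))
          (C.cxy _ _ fun k ⟨h1, h2⟩ => hi (by
            have e1 := C.ix_inj h1; have e2 := C.iy_inj h2; rw [e2, e1]))
      have hatI : ∀ k, C.rho k = C.M.at' k (C.r * C.s * C.r * C.s) := fun k => by
        simp only [rho, C.hix, C.hiy, map_mul]
      have hB : C.rho i * (C.rho j)⁻¹ ∈ ⁅C.small, C.small⁆ := by
        have h := Subgroup.commutator_mem_commutator (C.rho_mem i) (C.p_mem hσ)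
        rwa [commutatorElement_def, show C.rho i * C.M.p σ * (C.rho i)⁻¹ * (C.M.p σ)⁻¹ =
          C.rho i * (C.M.p σ * C.rho i * (C.M.p σ)⁻¹)⁻¹ by group, hatI i,
          C.M.conj_at', ← hatI i, ← hatI j] at h
      have hc : Commute (C.rho i) (C.rho j) := by
        rw [hatI i, hatI j]; exact C.M.commute_at (fun h => hi h.symm) _ _
      have h := mul_mem hA hB
      rwa [hc.eq, mul_assoc (C.rho j), ← mul_assoc (C.rho i), ← sq,
        ← mul_assoc, (hc.symm.pow_right 2).eq, mul_assoc, mul_inv_cancel, mul_one] at h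
  · rw [((C.cxx p q)).mul_pow 2, sq, sq, C.invx, C.invx, mul_one]
    exact one_mem _
  · rw [((C.cyy p q)).mul_pow 2, sq, sq, C.invy, C.invy, mul_one]
    exact one_mem _
  · rw [sq, ← map_mul, C.d.invol σ hσ, map_one]
    exact one_mem _

/-- the conclusion for the derived group -/
theorem omega_sylow [Finite G] (a : C.J) (b : C.J') {v : ℕ}
    (hG : (Nat.card G).factorization 2 = v) (hindex : (commutator G).index = 4)
    (hcard : Nat.card C.big = 2 ^ v)
    (hne : ∀ i, (∃ a b, Commute (C.x a) (C.y (C.iy i)) ∧ Commute (C.x (C.ix i)) (C.y b) ∧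
      Commute (C.x a) (C.y b)) ∨ ∃ σ ∈ C.d.S, σ i ≠ i)
    (P : Sylow 2 (commutator G)) : SqDer (P : Subgroup (commutator G)) := by
  have hle := C.small_le_commutator
  obtain ⟨t, -, ht⟩ := (Nat.dvd_prime_pow Nat.prime_two).1
    (hcard ▸ Subgroup.card_dvd_of_le C.small_le_big)
  have h1 : v ≤ t + 2 := by
    have h := C.card_big_le a b
    rw [hcard, ht] at h
    exact (Nat.pow_le_pow_iff_right (le_refl 2)).1 (by rw [pow_add]; exact h)
  have h2 : v = (Nat.card (commutator G)).factorization 2 + 2 := by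
    rw [← hG, ← Subgroup.card_mul_index (commutator G), hindex,
      Nat.factorization_mul Nat.card_pos.ne' (by norm_num), Finsupp.coe_add, Pi.add_apply,
      show (4 : ℕ) = 2 ^ 2 from rfl, Nat.prime_two.factorization_pow, Finsupp.single_eq_same]
  have h3 : t ≤ (Nat.card (commutator G)).factorization 2 :=
    (Nat.prime_two.pow_dvd_iff_le_factorization Nat.card_pos.ne').1
      (ht ▸ Subgroup.card_dvd_of_le hle)
  have e := Subgroup.subgroupOfEquivOfLe hle
  refine sqDer_sylow (P0 := C.small.subgroupOf (commutator G)) ?_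
    (sqDer_mulEquiv e.symm (C.sqDer_small hne)) P
  rw [Nat.card_congr e.toEquiv, ht]
  congr 1
  omega

end OConfig

end Cfsg.Agent.SylowAb
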