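import Cfsg.Agent.Lib.SylowAb.Basic
import Cfsg.Agent.Lib.Classical.OmegaCrit
import Cfsg.Agent.Lib.Classical.OrthSimple

/-!
# Two-subgroups of `Ω` in characteristic two are contained in two-groups generated by involutions
-/

set_option autoImplicit false

namespace Cfsg.Agent.SylowAb.OrthChar2

open Matrix Module Cfsg.Agent.Forms Cfsg.Agent.Forms.QuadStd Cfsg.Agent.Forms.Reflections
open Cfsg.Agent.Classical Cfsg.Agent.Classical.Orth Cfsg.Agent.Classical.OmegaCrit

variable {F : Type*} [Field F] [Fintype F] {ι : Type} [Fintype ι] [DecidableEq ι]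
variable {Q : QuadraticForm F (ι → F)}

local notation "Vec" => (ι → F)
local notation "B" => QuadraticMap.polar Q
local notation "Iso" => Cfsg.isometryGroup F (DFunLike.coe Q)
local notation "Ω" => Cfsg.Omega F (DFunLike.coe Q)

/-- the orthogonal complement -/
noncomputable def perp (Q : QuadraticForm F (ι → F)) (U : Submodule F (ι → F)) : Submodule F (ι → F) :=
  LinearMap.BilinForm.orthogonal (polB Q) U

theorem mem_perp {U : Submodule F Vec} {x : Vec} : x ∈ perp Q U ↔ ∀ y ∈ U, B y x = 0 :=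
  Iff.rfl

/-- the elements fixing a subspace pointwise -/
def fixer (Q : QuadraticForm F (ι → F)) (U : Submodule F (ι → F)) :
    Subgroup (Cfsg.isometryGroup F ⇑Q) where
  carrier := {g | ∀ x ∈ U, act g x = x}
  one_mem' := fun x _ => act_one x
  mul_mem' := fun {g h} hg hh x hx => by rw [act_mul, hh x hx, hg x hx]
  inv_mem' := fun {g} hg x hx => by
    nth_rw 1 [← hg x hx]; rw [← act_mul, inv_mul_cancel, act_one]

theorem act_perp {U : Submodule F Vec} {g : Iso} (hg : g ∈ fixer Q U) {x : Vec}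
    (hx : x ∈ perp Q U) : act g x ∈ perp Q U :=
  mem_perp.2 fun y hy => by rw [← hg y hy, act_polar]; exact mem_perp.1 hx y hy

/-- a `2`-group fixes a nonzero vector in an invariant set of even size containing zero -/
theorem exists_fixed_in {P : Subgroup Iso} (hP : IsPGroup 2 P) (T : Set Vec) (h0 : (0 : Vec) ∈ T)
    (hT : ∀ g ∈ P, ∀ x ∈ T, act g x ∈ T) (heven : 2 ∣ Nat.card T) :
    ∃ x ∈ T, x ≠ 0 ∧ ∀ g ∈ P, act g x = x := by
  have : Fact (Nat.Prime 2) := ⟨Nat.prime_two⟩
  let A : MulAction P T :=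
    { smul := fun g x => ⟨act (g : Iso) x, hT _ g.2 _ x.2⟩
      one_smul := fun x => Subtype.ext (act_one (x : Vec))
      mul_smul := fun g h x => Subtype.ext (act_mul (g : Iso) h x) }
  obtain ⟨b, hb, hne⟩ := hP.exists_fixed_point_of_prime_dvd_card_of_fixed_point T heven
    (a := ⟨0, h0⟩) (fun g => Subtype.ext (map_zero (act (g : Iso))))
  exact ⟨b, b.2, fun h => hne (Subtype.ext h.symm), fun g hg => congrArg Subtype.val (hb ⟨g, hg⟩)⟩

variable (hQ : (QuadraticMap.polarBilin Q).Nondegenerate) (h2 : (2 : F) = 0)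

include h2

theorem two_dvd_card : 2 ∣ Nat.card F := by
  have : CharP F 2 := CharTwo.of_one_ne_zero_of_two_eq_zero one_ne_zero h2
  rw [Nat.card_eq_fintype_card]
  exact (FiniteField.even_card_iff_char_two.1 (ringChar.eq F 2) |> Nat.dvd_of_mod_eq_zero)

theorem exists_fixed_mem {P : Subgroup Iso} (hP : IsPGroup 2 P) (W : Submodule F Vec) (hW : W ≠ ⊥)
    (hinv : ∀ g ∈ P, ∀ x ∈ W, act g x ∈ W) :
    ∃ x ∈ W, x ≠ 0 ∧ ∀ g ∈ P, act g x = x :=
  exists_fixed_in hP (W : Set Vec) (zero_mem _) hinv (by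
    change 2 ∣ Nat.card W
    rw [Module.natCard_eq_pow_finrank (K := F)]
    exact (two_dvd_card h2).trans (dvd_pow_self _ fun h => hW (Submodule.finrank_eq_zero.1 h)))

theorem exists_fixed_singular {P : Subgroup Iso} (hP : IsPGroup 2 P) (W : Submodule F Vec)
    (hW : 3 ≤ finrank F W) (hinv : ∀ g ∈ P, ∀ x ∈ W, act g x ∈ W) :
    ∃ u ∈ W, u ≠ 0 ∧ Q u = 0 ∧ ∀ g ∈ P, act g u = u := by
  obtain ⟨x, hxW, hx0, hx⟩ := exists_fixed_mem h2 hP W (by rintro rfl; simp at hW) hinv
  by_cases hQx : Q x = 0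
  · exact ⟨x, hxW, hx0, hQx, hx⟩
  let Y : Submodule F Vec := W ⊓ LinearMap.ker (polB Q x)
  have hY : ∀ y, y ∈ Y ↔ y ∈ W ∧ B x y = 0 := fun y => by simp [Y, polB_apply]
  have hxY : x ∈ Y := (hY x).2 ⟨hxW, by rw [polar_self', h2, zero_mul]⟩
  have hdim : 2 ≤ finrank F Y := by
    have h := Submodule.finrank_sup_add_finrank_inf_eq W (LinearMap.ker (polB Q x))
    have h' := Submodule.finrank_le (W ⊔ LinearMap.ker (polB Q x))
    have h'' := LinearMap.finrank_range_add_finrank_ker (polB Q x)
    have h3 : finrank F (LinearMap.range (polB Q x)) ≤ 1 :=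
      (Submodule.finrank_le _).trans (Module.finrank_self F).le
    change 2 ≤ finrank F ↥(W ⊓ LinearMap.ker (polB Q x))
    omega
  have : CharP F 2 := CharTwo.of_one_ne_zero_of_two_eq_zero one_ne_zero h2
  choose rt hrt using fun a : F =>
    (FiniteField.isSquare_of_char_two (ringChar.eq F 2) a : IsSquare a)
  let T : Set Vec := {y | y ∈ Y ∧ Q y = 0}
  have hval : ∀ y ∈ Y, ∀ l : F, Q (y + l • x) = Q y + l * l * Q x := fun y hy l => by
    rw [Orth.map_add', Orth.map_smul', QuadraticMap.polar_smul_right, QuadraticMap.polar_comm,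
      ((hY y).1 hy).2, smul_zero, add_zero]
  have hinj : ∀ a b : F, a * a = b * b → a = b := fun a b h => by
    rw [← sub_eq_zero, ← mul_self_eq_zero (a := a - b)]
    linear_combination h - (a * b - b * b) * h2
  have hneg : ∀ a : F, -a = a := fun a => by linear_combination (-a) * h2
  have hbij : Function.Bijective fun p : T × F =>
      (⟨(p.1 : Vec) + p.2 • x, add_mem p.1.2.1 (Y.smul_mem _ hxY)⟩ : Y) := by
    constructor
    · rintro ⟨a, l⟩ ⟨b, m⟩ h
      have h' : (a : Vec) + l • x = b + m • x := congrArg Subtype.val h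
      have h1 := congrArg Q h'
      rw [hval _ a.2.1, hval _ b.2.1, a.2.2, b.2.2, zero_add, zero_add] at h1
      obtain rfl := hinj _ _ (mul_right_cancel₀ hQx h1)
      exact Prod.ext (Subtype.ext (add_right_cancel h')) rfl
    · rintro ⟨y, hy⟩
      set l := rt (Q y / Q x) with hl
      refine ⟨(⟨y + l • x, add_mem hy (Y.smul_mem _ hxY), ?_⟩, l), Subtype.ext ?_⟩
      · rw [hval y hy, hl, ← hrt, div_mul_cancel₀ _ hQx]
        linear_combination Q y * h2
      · show y + l • x + l • x = y
        rw [add_assoc, ← add_smul, show l + l = 0 by linear_combination l * h2, zero_smul,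
          add_zero]
  have hcard : Nat.card T * Nat.card F = Nat.card F ^ finrank F Y := by
    rw [← Nat.card_prod, Nat.card_eq_of_bijective _ hbij, Module.natCard_eq_pow_finrank (K := F)]
  have heven : 2 ∣ Nat.card T := by
    obtain ⟨d, hd⟩ := Nat.exists_eq_add_of_le hdim
    rw [hd, show 2 + d = (d + 1) + 1 by omega, pow_succ] at hcard
    rw [Nat.eq_of_mul_eq_mul_right Nat.card_pos hcard]
    exact (two_dvd_card h2).trans (dvd_pow_self _ (by omega))
  obtain ⟨u, hu, hu0, hfix⟩ := exists_fixed_in hP T ⟨zero_mem _, QuadraticMap.map_zero Q⟩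
    (fun g hg y hy => ⟨(hY _).2 ⟨hinv g hg y ((hY y).1 hy.1).1, by
      rw [← hx g hg, act_polar]; exact ((hY y).1 hy.1).2⟩, by rw [act_map]; exact hy.2⟩) heven
  exact ⟨u, ((hY u).1 hu.1).1, hu0, hu.2, hfix⟩

include hQ in
/-- the induction on the fixed non-degenerate subspace -/
theorem exists_gen (f : Frame Q) (hn : 5 ≤ Fintype.card ι) :
    ∀ (d : ℕ) (U : Submodule F Vec), Fintype.card ι - finrank F U ≤ d →
      (∀ z ∈ U, (∀ s ∈ U, B z s = 0) → z = 0) →
      ∀ P : Subgroup Iso, IsPGroup 2 P → P ≤ fixer Q U ⊓ Ω →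
        ∃ R : Subgroup Iso, IsPGroup 2 R ∧ P ≤ R ∧ R ≤ fixer Q U ⊓ Ω ∧
          ∃ S : Set Iso, R = Subgroup.closure S ∧ ∀ s ∈ S, s * s = 1 := by
  intro d
  induction d using Nat.strong_induction_on with
  | _ d ih =>
  intro U hd hU P hP hPle
  have hinv : ∀ g ∈ P, ∀ x ∈ perp Q U, act g x ∈ perp Q U := fun g hg _ => act_perp (hPle hg).1
  have hrefl : LinearMap.BilinForm.IsRefl (polB Q) := fun x y h => by
    rw [polB_apply] at h ⊢; rw [QuadraticMap.polar_comm]; exact h
  have hcompl : IsCompl U (perp Q U) :=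
    LinearMap.BilinForm.isCompl_orthogonal_of_restrict_nondegenerate hrefl (by
      refine ⟨fun z hz => Subtype.ext (hU z z.2 fun s hs => hz ⟨s, hs⟩), fun z hz =>
        Subtype.ext (hU z z.2 fun s hs => ?_)⟩
      rw [QuadraticMap.polar_comm]
      exact hz ⟨s, hs⟩)
  have hdimW : finrank F U + finrank F (perp Q U) = Fintype.card ι := by
    rw [Submodule.finrank_add_eq_of_isCompl hcompl, Module.finrank_pi]
  by_cases hex : ∃ u ∈ perp Q U, u ≠ 0 ∧ Q u = 0 ∧ ∀ g ∈ P, act g u = u
  swap
  · -- the complement is an anisotropic plane or trivial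
    have hW : finrank F (perp Q U) ≤ 2 := by
      by_contra h
      exact hex (exists_fixed_singular h2 hP _ (by omega) hinv)
    suffices hP1 : ∀ g ∈ P, g = 1 by
      exact ⟨⊥, IsPGroup.of_bot, fun g hg => Subgroup.mem_bot.2 (hP1 g hg), bot_le, ∅,
        Subgroup.closure_empty.symm, by simp⟩
    intro g hg
    have hUle : U ≤ fixSp g := fun x hx => mem_fixSp.2 ((hPle hg).1 x hx)
    have htop : fixSp g = ⊤ := by
      have hpar := (mem_omega_iff_par hQ (Or.inr (by omega)) h2 g).1 (hPle hg).2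
      rw [par] at hpar
      have heven : Even (finrank F (fixSp g) + Fintype.card ι) :=
        (neg_one_pow_eq_one_iff_even (by decide)).1 hpar
      have hle : finrank F (fixSp g) ≤ Fintype.card ι :=
        (Submodule.finrank_le _).trans (Module.finrank_pi F).le
      refine Submodule.eq_top_of_finrank_eq ?_
      rw [Module.finrank_pi]
      rcases eq_or_ne (perp Q U) ⊥ with hb | hb
      · have := Submodule.finrank_mono hUle
        rw [hb, finrank_bot] at hdimW
        omega
      · obtain ⟨x, hxW, hx0, hx⟩ := exists_fixed_mem h2 hP _ hb hinv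
        have hlt : U < fixSp g := lt_of_le_of_ne hUle fun h => hx0 (by
          have : x ∈ U := h ▸ mem_fixSp.2 (hx g hg)
          simpa using (Submodule.disjoint_def.1 hcompl.disjoint) x this hxW)
        have := Submodule.finrank_lt_finrank_of_lt hlt
        obtain ⟨k, hk⟩ := heven
        omega
    exact act_ext fun x => by rw [act_one]; exact mem_fixSp.1 (htop ▸ Submodule.mem_top)
  obtain ⟨u, huW, hu0, hQu, hufix⟩ := hex
  have hbu : ∀ y ∈ U, B y u = 0 := mem_perp.1 huW
  -- a partner
  obtain ⟨v, hvW, hQv, huv⟩ : ∃ v ∈ perp Q U, Q v = 0 ∧ B u v = 1 := by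
    obtain ⟨w, hwW, hw⟩ : ∃ w ∈ perp Q U, B u w ≠ 0 := by
      by_contra h
      push Not at h
      refine hu0 (hQ.1 u fun z => ?_)
      obtain ⟨a, ha, b, hb, rfl⟩ := Submodule.mem_sup.1
        (hcompl.sup_eq_top ▸ Submodule.mem_top : z ∈ U ⊔ perp Q U)
      simp only [QuadraticMap.polarBilin_apply_apply, QuadraticMap.polar_add_right]
      rw [QuadraticMap.polar_comm, hbu a ha, h b hb, add_zero]
    set w' := (B u w)⁻¹ • w with hw'
    have h1 : B u w' = 1 := by
      rw [hw', QuadraticMap.polar_smul_right, smul_eq_mul, inv_mul_cancel₀ hw]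
    refine ⟨w' + Q w' • u, add_mem (Submodule.smul_mem _ _ hwW) (Submodule.smul_mem _ _ huW), ?_,
      ?_⟩
    · rw [Orth.map_add', Orth.map_smul' (Q w') u, hQu, QuadraticMap.polar_smul_right,
        QuadraticMap.polar_comm, h1,
        smul_eq_mul]
      linear_combination Q w' * h2
    · rw [QuadraticMap.polar_add_right, h1, QuadraticMap.polar_smul_right, polar_self_zero hQu,
        smul_zero, add_zero]
  have hvu : B v u = 1 := by rw [QuadraticMap.polar_comm, huv]
  set U' := U ⊔ Submodule.span F ({u, v} : Set Vec) with hU'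
  have hUU' : U ≤ U' := le_sup_left
  have huU' : u ∈ U' := le_sup_right (a := U) (Submodule.subset_span (by simp))
  have hvU' : v ∈ U' := le_sup_right (a := U) (Submodule.subset_span (by simp))
  have hnd' : ∀ z ∈ U', (∀ s ∈ U', B z s = 0) → z = 0 := by
    intro z hz hzs
    obtain ⟨a, ha, b, hb, rfl⟩ := Submodule.mem_sup.1 hz
    obtain ⟨s, t, rfl⟩ := Submodule.mem_span_pair.1 hb
    have h1 := hzs u huU'
    have h3 := hzs v hvU'
    simp only [QuadraticMap.polar_add_left, QuadraticMap.polar_smul_left, smul_eq_mul,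
      hbu a ha, mem_perp.1 hvW a ha, polar_self_zero hQu, polar_self_zero hQv, huv, hvu, mul_zero,
      mul_one, zero_add, add_zero] at h1 h3
    subst h1 h3
    simp only [zero_smul, add_zero] at hzs ⊢
    exact hU a ha fun y hy => hzs y (hUU' hy)
  have hlt : finrank F U < finrank F U' := by
    refine Submodule.finrank_lt_finrank_of_lt (lt_of_le_of_ne hUU' fun h => ?_)
    have : v ∈ U := h ▸ hvU'
    exact one_ne_zero (hvu.symm.trans (hbu v this))
  have hle' : finrank F U' ≤ Fintype.card ι :=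
    (Submodule.finrank_le _).trans (Module.finrank_pi F).le
  -- the Siegel group
  have hadd : ∀ {a b : Vec}, B u a = 0 → B u b = 0 → B u (a + b) = 0 := fun ha hb => by
    rw [QuadraticMap.polar_add_right, ha, hb, add_zero]
  let E : Subgroup Iso :=
    { carrier := {g | ∃ (w : Vec) (hw : B u w = 0), w ∈ perp Q U ∧ g = eich u w hQu hw}
      one_mem' := ⟨0, QuadraticMap.polar_zero_right Q u, zero_mem _,
        (eich_zero_right hQu _).symm⟩
      mul_mem' := by
        rintro _ _ ⟨a, ha, haW, rfl⟩ ⟨b, hb, hbW, rfl⟩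
        exact ⟨a + b, hadd ha hb, add_mem haW hbW, eich_mul hQu ha hb⟩
      inv_mem' := by
        rintro _ ⟨a, ha, haW, rfl⟩
        exact ⟨-a, by rw [QuadraticMap.polar_neg_right, ha, neg_zero], neg_mem haW,
          eich_inv hQu ha⟩ }
  have hEinvol : ∀ g ∈ E, g * g = 1 := by
    rintro _ ⟨w, hw, -, rfl⟩
    rw [eich_mul hQu hw hw, eich_congr (show w + w = 0 by
      rw [← two_smul F w, h2, zero_smul]), eich_zero_right]
  have hEle : E ≤ fixer Q U ⊓ Ω := by
    rintro _ ⟨w, hw, hwW, rfl⟩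
    exact ⟨fun x hx => act_eich_fix hQu hw (hbu x hx) (mem_perp.1 hwW x hx),
      eGroup_mem_omega hQ f hn (eich_mem hQu hw trivial trivial)⟩
  have hEp : IsPGroup 2 E := fun g => ⟨1, Subtype.ext (by
    simpa [sq] using hEinvol g g.2)⟩
  have hnorm : ∀ g : Iso, g ∈ fixer Q U → act g u = u → g ∈ Subgroup.normalizer (E : Set Iso) := by
    have key : ∀ g : Iso, g ∈ fixer Q U → act g u = u → ∀ e ∈ E, g * e * g⁻¹ ∈ E := by
      rintro g hg hgu _ ⟨w, hw, hwW, rfl⟩
      have hw' : B u (act g w) = 0 := by rw [← hgu, act_polar]; exact hw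
      refine ⟨act g w, hw', act_perp hg hwW, ?_⟩
      rw [eich_conj g hQu hw]
      congr 1
    intro g hg hgu
    rw [Subgroup.mem_normalizer_iff]
    intro e
    refine ⟨key g hg hgu e, fun he => ?_⟩
    have hgu' : act g⁻¹ u = u := by nth_rw 1 [← hgu]; rw [← act_mul, inv_mul_cancel, act_one]
    simpa [mul_assoc] using key g⁻¹ (inv_mem hg) hgu' _ he
  set M := E ⊔ P with hM
  have hMp : IsPGroup 2 M :=
    hEp.to_sup_of_normal_left' hP fun g hg => hnorm g (hPle hg).1 (hufix g hg)
  have hMle : M ≤ fixer Q U ⊓ Ω := sup_le hEle hPle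
  obtain ⟨R', hR'p, hPR', hR'le, S', hS', hS'i⟩ := ih (Fintype.card ι - finrank F U') (by omega) U'
    le_rfl hnd' (M ⊓ fixer Q U') hMp.to_inf_left (fun g hg => ⟨hg.2, (hMle hg.1).2⟩)
  have hR'U : R' ≤ fixer Q U := fun g hg x hx => (hR'le hg).1 x (hUU' hx)
  refine ⟨E ⊔ R', hEp.to_sup_of_normal_left' hR'p
      (fun g hg => hnorm g (hR'U hg) ((hR'le hg).1 u huU')), fun g hg => ?_,
    sup_le hEle (le_inf hR'U fun g hg => (hR'le hg).2), (E : Set Iso) ∪ S', ?_, ?_⟩
  · set v' := act g v with hv'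
    have hv'W : v' ∈ perp Q U := hinv g hg v hvW
    have huv' : B u v' = 1 := by rw [hv', ← hufix g hg, act_polar]; exact huv
    set w := v' - v - B v v' • u with hw
    have hwW : w ∈ perp Q U := sub_mem (sub_mem hv'W hvW) (Submodule.smul_mem _ _ huW)
    have huw : B u w = 0 := by
      simp [hw, QuadraticMap.polar_sub_right, QuadraticMap.polar_smul_right, huv', huv,
        polar_self_zero hQu]
    have hvw : B v w = 0 := by
      simp [hw, QuadraticMap.polar_sub_right, QuadraticMap.polar_smul_right, hvu,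
        polar_self_zero hQv]
    have hQw : Q w = -B v v' := by
      simp only [hw, Orth.map_sub', Orth.map_smul', hQu, hQv, show Q v' = 0 by rw [hv', act_map, hQv],
        QuadraticMap.polar_sub_left, QuadraticMap.polar_smul_right, smul_eq_mul,
        QuadraticMap.polar_comm _ v' u, huv', hvu, QuadraticMap.polar_comm _ v' v]
      ring
    set e := eich u w hQu huw with he
    have heE : e ∈ E := ⟨w, huw, hwW, rfl⟩
    have hev : act e v = v' := by
      rw [he, act_eich, hvu, hvw, hQw, hw]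
      module
    have hegM : e⁻¹ * g ∈ M :=
      mul_mem (inv_mem (show e ∈ M from Subgroup.mem_sup_left heE)) (Subgroup.mem_sup_right hg)
    have hmem : e⁻¹ * g ∈ M ⊓ fixer Q U' := by
      refine ⟨hegM, ?_⟩
      have hfix : U' ≤ LinearMap.eqLocus (act (e⁻¹ * g)) LinearMap.id := by
        refine sup_le (fun x hx => (hMle hegM).1 x hx) (Submodule.span_le.2 ?_)
        rintro x (rfl | rfl)
        · show act (e⁻¹ * g) x = x
          rw [act_mul, hufix g hg]
          nth_rw 1 [← act_eich_self hQu huw]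
          rw [← he, ← act_mul, inv_mul_cancel, act_one]
        · show act (e⁻¹ * g) x = x
          rw [act_mul, ← hv', ← hev, ← act_mul, inv_mul_cancel, act_one]
      exact fun x hx => hfix hx
    have := mul_mem (Subgroup.mem_sup_left (T := R') heE) (Subgroup.mem_sup_right (hPR' hmem))
    rwa [mul_inv_cancel_left] at this
  · rw [Subgroup.closure_union, Subgroup.closure_eq, hS']
  · rintro s (hs | hs)
    exacts [hEinvol s hs, hS'i s hs]

include hQ in
/-- Sylow `2`-subgroups of `Ω` are generated by involutions -/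
theorem sqDer_omega (f : Frame Q) (hn : 5 ≤ Fintype.card ι) (P : Sylow 2 Ω) :
    SqDer (P : Subgroup Ω) := by
  obtain ⟨R, hR, hPR, hle, S, hS, hSi⟩ := exists_gen hQ h2 f hn (Fintype.card ι) ⊥ (by simp)
    (fun z hz _ => (Submodule.mem_bot F).1 hz) ((P : Subgroup Ω).map (Subgroup.subtype _))
    (P.2.map _) (fun g hg => ⟨fun x hx => by rw [(Submodule.mem_bot F).1 hx, map_zero], by
      obtain ⟨x, -, rfl⟩ := Subgroup.mem_map.1 hg
      exact x.2⟩)
  have hR' : R.subgroupOf Ω = (P : Subgroup Ω) := by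
    refine P.3 (hR.comap_of_injective _ (Subgroup.subtype_injective _)) fun x hx => ?_
    exact hPR (Subgroup.mem_map_of_mem _ hx)
  rw [← hR']
  exact sqDer_mulEquiv (Subgroup.subgroupOfEquivOfLe fun g hg => (hle hg).2).symm
    (sqDer_closure_invol hS hSi)

end Cfsg.Agent.SylowAb.OrthChar2
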