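import Mathlib

/-!
# `2`-parts of `q ^ n ± 1`
-/

set_option autoImplicit false

namespace Cfsg.Agent.SylowAb


/-- the `2`-part exponent of `q ^ 2 - 1` -/
def cTwo (q : ℕ) : ℕ := (q - 1).factorization 2 + (q + 1).factorization 2

variable {q : ℕ}

theorem v2_two : (2 : ℕ).factorization 2 = 1 := Nat.prime_two.factorization_self

theorem v2_pow_odd (hq : Odd q) (e : ℕ) : (q ^ e).factorization 2 = 0 :=
  Nat.factorization_eq_zero_of_not_dvd (by
    rw [← even_iff_two_dvd, Nat.not_even_iff_odd]; exact hq.pow)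

theorem v2_mul {a b : ℕ} (ha : a ≠ 0) (hb : b ≠ 0) :
    (a * b).factorization 2 = a.factorization 2 + b.factorization 2 := by
  rw [Nat.factorization_mul ha hb]; rfl

theorem pow_sub_one_ne_zero (h1 : 1 < q) {n : ℕ} (hn : n ≠ 0) : q ^ n - 1 ≠ 0 := by
  have := Nat.one_lt_pow hn h1
  omega

/-- lifting the exponent -/
theorem v2_pow_two_mul_sub (hq : Odd q) (h1 : 1 < q) {n : ℕ} (hn : n ≠ 0) :
    (q ^ (2 * n) - 1).factorization 2 = cTwo q + n.factorization 2 := by
  have h2 : ¬ 2 ∣ q := by rw [← even_iff_two_dvd, Nat.not_even_iff_odd]; exact hq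
  have h := padicValNat.pow_two_sub_one h1 h2 (n := 2 * n) (by omega) (even_two_mul n)
  rw [← Nat.factorization_def _ Nat.prime_two, ← Nat.factorization_def _ Nat.prime_two,
    ← Nat.factorization_def _ Nat.prime_two, ← Nat.factorization_def _ Nat.prime_two,
    v2_mul two_ne_zero hn, v2_two] at h
  unfold cTwo
  omega

theorem v2_sq_sub (hq : Odd q) (h1 : 1 < q) : (q ^ 2 - 1).factorization 2 = cTwo q := by
  have h := v2_pow_two_mul_sub hq h1 one_ne_zero
  simpa using h

theorem v2_plus_add_minus (hq : Odd q) (h1 : 1 < q) {m : ℕ} (hm : m ≠ 0) :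
    (q ^ m - 1).factorization 2 + (q ^ m + 1).factorization 2 = cTwo q + m.factorization 2 := by
  rw [← v2_pow_two_mul_sub hq h1 hm, ← v2_mul (pow_sub_one_ne_zero h1 hm) (Nat.add_one_ne_zero _),
    mul_comm, ← Nat.sq_sub_sq, one_pow, ← pow_mul, mul_comm m]

theorem v2_of_mod_four {n : ℕ} (h : n % 4 = 2) : n.factorization 2 = 1 := by
  obtain ⟨k, rfl⟩ : ∃ k, n = 2 * k := ⟨n / 2, by omega⟩
  rw [v2_mul two_ne_zero (by omega), v2_two, Nat.factorization_eq_zero_of_not_dvd (by omega)]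

/-- `q ^ m ≡ 1 (mod 4)` -/
theorem v2_pow_sub_of_one (hq : Odd q) (h1 : 1 < q) {m : ℕ} (hm : m ≠ 0) (h : q ^ m % 4 = 1) :
    (q ^ m - 1).factorization 2 + 1 = cTwo q + m.factorization 2 := by
  rw [← v2_plus_add_minus hq h1 hm, v2_of_mod_four (n := q ^ m + 1) (by omega)]

/-- `q ^ m ≡ 3 (mod 4)` -/
theorem v2_pow_sub_of_three {m : ℕ} (h3 : q ^ m % 4 = 3) :
    (q ^ m - 1).factorization 2 = 1 :=
  v2_of_mod_four (by omega)

theorem v2_pow_add_of_three (hq : Odd q) (h1 : 1 < q) {m : ℕ} (hm : m ≠ 0) (h : q ^ m % 4 = 3) :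
    (q ^ m + 1).factorization 2 + 1 = cTwo q + m.factorization 2 := by
  rw [← v2_plus_add_minus hq h1 hm, v2_of_mod_four (n := q ^ m - 1) (by omega), add_comm]

theorem v2_pow_add_of_one {m : ℕ} (h : q ^ m % 4 = 1) : (q ^ m + 1).factorization 2 = 1 :=
  v2_of_mod_four (by omega)

theorem v2_prod (hq : Odd q) (h1 : 1 < q) (m : ℕ) :
    (∏ i ∈ Finset.range m, (q ^ (2 * (i + 1)) - 1)).factorization 2 =
      m * cTwo q + m.factorial.factorization 2 := by
  induction m with
  | zero => simp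
  | succ m ih =>
    rw [Finset.prod_range_succ, v2_mul (Finset.prod_ne_zero_iff.2 fun i _ =>
      pow_sub_one_ne_zero h1 (by omega)) (pow_sub_one_ne_zero h1 (by omega)), ih,
      v2_pow_two_mul_sub hq h1 (by omega), Nat.factorial_succ,
      v2_mul (by omega) (Nat.factorial_ne_zero _)]
    ring

theorem v2_pow_odd_sub (h1 : 1 < q) (hq : Odd q) {n : ℕ} (hn : Odd n) :
    (q ^ n - 1).factorization 2 = (q - 1).factorization 2 := by
  have h := Nat.geomSum_eq (m := q) h1 n
  have hS : Odd (∑ i ∈ Finset.range n, q ^ i) := by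
    rw [Finset.odd_sum_iff_odd_card_odd, Finset.filter_true_of_mem fun i _ => hq.pow,
      Finset.card_range]
    exact hn
  have hd : q - 1 ∣ q ^ n - 1 := by simpa using Nat.sub_dvd_pow_sub_pow q 1 n
  conv_lhs => rw [← Nat.div_mul_cancel hd, ← h]
  rw [v2_mul (Nat.pos_iff_ne_zero.1 hS.pos) (by omega),
    Nat.factorization_eq_zero_of_not_dvd (by
      rw [← even_iff_two_dvd, Nat.not_even_iff_odd]; exact hS), zero_add]

end Cfsg.Agent.SylowAb
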