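import Mathlib
import Cfsg.Agent.Lib.Classical.OmegaCrit
import Cfsg.Agent.Lib.SylowAb.Forms
import Cfsg.Agent.Lib.SylowAb.Two
import Cfsg.Agent.S0288

/-!
# A Sylow `2`-subgroup of the orthogonal group of `x² + y²`
-/

set_option autoImplicit false

namespace Cfsg.Agent.SylowAb

open Matrix Cfsg.Agent.Forms Cfsg.Agent.Forms.QuadStd Cfsg.Agent.Forms.Reflections
open Cfsg.Agent.Classical.OrthForms Cfsg.Agent.Forms.PlusStd Cfsg.Agent.Classical.OmegaCrit

variable {F : Type*} [Field F]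

/-- `x² + y²` -/
noncomputable def twoQ (F : Type*) [Field F] : QuadraticForm F (Fin 2 → F) :=
  dQ fun _ => 1

theorem twoQ_apply (v : Fin 2 → F) : twoQ F v = v 0 * v 0 + v 1 * v 1 := by
  simp [twoQ, dQ_apply, Fin.sum_univ_two]

theorem twoQ_nondeg (h2 : (2 : F) ≠ 0) : (QuadraticMap.polarBilin (twoQ F)).Nondegenerate :=
  dQ_nondeg h2 fun _ => one_ne_zero

variable [Fintype F]

theorem hcard_two (h2 : (2 : F) ≠ 0) :
    Fintype.card F ≠ 2 ∨ Fintype.card (Fin 2) ≠ 4 := Or.inr (by simp)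

/-- the `2`-part of the order -/
theorem v2_card_twoQ {q : ℕ} (hF : Fintype.card F = q) (hodd : Odd q) :
    (Nat.card (Cfsg.isometryGroup F ⇑(twoQ F))).factorization 2 = cTwo q := by
  have h2 : (2 : F) ≠ 0 := two_ne_zero_of_odd (hF ▸ hodd)
  have h1 : 1 < q := hF ▸ Fintype.one_lt_card
  have hq1 : q ^ 1 % 4 = q % 4 := by rw [pow_one]
  by_cases hneg : IsSquare (-1 : F)
  · obtain ⟨e⟩ := exists_iso h2 (twoQ_nondeg h2) (plusQ_nondeg F 1) (by simp) (by
      rw [twoQ, discr_dQ, discr_plus]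
      simp only [Fin.prod_univ_two, mul_one, pow_one]
      exact (IsSquare.mul_self 2).mul hneg)
    have hmod : q % 4 ≠ 3 := hF ▸ FiniteField.isSquare_neg_one_iff.1 hneg
    rw [Nat.card_congr e.toEquiv, natCard_O_plus hF 0]
    simp only [zero_add, mul_zero, pow_zero, mul_one, pow_one, Finset.range_zero,
      Finset.prod_empty]
    rw [v2_mul two_ne_zero (by omega), v2_two, cTwo, v2_of_mod_four (n := q + 1) (by
      rw [Nat.odd_iff] at hodd; omega)]
    ring
  · have hmod : q % 4 = 3 := by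
      by_contra hne
      exact hneg (FiniteField.isSquare_neg_one_iff.2 (hF ▸ hne))
    obtain ⟨ν, hν0, hν⟩ := exists_nonsquare h2
    rw [chi_eq_neg_one_iff] at hν
    have hab : ∀ z₁ z₂ : F, z₁ ^ 2 + 0 * z₁ * z₂ + -ν * z₂ ^ 2 = 0 → z₁ = 0 ∧ z₂ = 0 := by
      intro z₁ z₂ h
      have hz : z₂ = 0 := by
        by_contra hz
        exact hν ⟨z₁ / z₂, by field_simp; linear_combination -h⟩
      subst hz
      exact ⟨pow_eq_zero_iff two_ne_zero |>.1 (by linear_combination h), rfl⟩
    obtain ⟨e⟩ := exists_iso h2 (twoQ_nondeg h2) (minQ_nondeg 0 hab) (by simp) (by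
      rw [twoQ, discr_dQ, discr_min]
      simp only [Fin.prod_univ_two, mul_one, pow_zero, one_mul]
      obtain ⟨r, hr⟩ : IsSquare (-1 * ν) := Bases.isSquare_mul_of_not hneg hν
      exact ⟨4 * r, by linear_combination (16 : F) * hr⟩)
    rw [Nat.card_congr e.toEquiv, minQ_eq, ← show 1 - 1 = 0 from rfl, S0288.result hF 1 le_rfl 0 (-ν) hab]
    simp only [Nat.sub_self, mul_zero, pow_zero, mul_one, pow_one, Finset.range_zero,
      Finset.prod_empty]
    rw [v2_mul two_ne_zero (by omega), v2_two, cTwo, v2_of_mod_four (n := q - 1) (by omega)]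

omit [Fintype F] in
theorem transpose_mul_self (h2 : (2 : F) ≠ 0) (g : Cfsg.isometryGroup F ⇑(twoQ F)) :
    (g.1 : Matrix (Fin 2) (Fin 2) F)ᵀ * (g.1 : Matrix (Fin 2) (Fin 2) F) = 1 := by
  ext i j
  have h := iso_polar (twoQ F) g (Pi.single i 1) (Pi.single j 1)
  have h' := mul_left_cancel₀ h2 ((dQ_polar _ _ _).symm.trans (h.trans (dQ_polar _ _ _)))
  rw [Matrix.mul_apply]
  fin_cases i <;> fin_cases j <;>
    simpa [Fin.sum_univ_two, Matrix.mulVec_single_one] using h'

theorem det_one_form (h2 : (2 : F) ≠ 0) {g : Cfsg.isometryGroup F ⇑(twoQ F)}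
    (hg : par g = 1) :
    (g.1 : Matrix (Fin 2) (Fin 2) F) 1 1 = (g.1 : Matrix (Fin 2) (Fin 2) F) 0 0 ∧
      (g.1 : Matrix (Fin 2) (Fin 2) F) 0 1 = -(g.1 : Matrix (Fin 2) (Fin 2) F) 1 0 := by
  have hd := det_eq_par (twoQ_nondeg h2) (hcard_two h2) g
  rw [hg] at hd
  have hA := transpose_mul_self h2 g
  set A := (g.1 : Matrix (Fin 2) (Fin 2) F) with hA'
  have hinv : A.adjugate = Aᵀ := by
    calc A.adjugate = Aᵀ * A * A.adjugate := by rw [hA, one_mul]
      _ = Aᵀ := by rw [mul_assoc, Matrix.mul_adjugate, hd]; simp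
  rw [Matrix.adjugate_fin_two] at hinv
  have h00 := congrFun (congrFun hinv 0) 0
  have h10 := congrFun (congrFun hinv 1) 0
  simp at h00 h10
  exact ⟨h00, by linear_combination -h10⟩

theorem det_neg_one_sq (h2 : (2 : F) ≠ 0) {g : Cfsg.isometryGroup F ⇑(twoQ F)}
    (hg : par g = -1) : g * g = 1 := by
  have hd := det_eq_par (twoQ_nondeg h2) (hcard_two h2) g
  rw [hg] at hd
  have hA := transpose_mul_self h2 g
  refine Subtype.ext (Units.ext ?_)
  show (g.1 : Matrix (Fin 2) (Fin 2) F) * g.1 = 1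
  set A := (g.1 : Matrix (Fin 2) (Fin 2) F) with hA'
  have hsym : Aᵀ = A := by
    have hinv : A.adjugate = -Aᵀ := by
      calc A.adjugate = Aᵀ * A * A.adjugate := by rw [hA, one_mul]
        _ = -Aᵀ := by rw [mul_assoc, Matrix.mul_adjugate, hd]; simp
    rw [Matrix.adjugate_fin_two] at hinv
    have h10 := congrFun (congrFun hinv 1) 0
    simp at h10
    ext i j
    fin_cases i <;> fin_cases j <;> simp [h10]
  nth_rewrite 1 [← hsym]
  exact hA

/-- two reflections generate a Sylow `2`-subgroup -/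
theorem exists_twoQ_gens {q : ℕ} (hF : Fintype.card F = q) (hodd : Odd q) (h2 : (2 : F) ≠ 0) :
    ∃ s : Cfsg.isometryGroup F ⇑(twoQ F), s * s = 1 ∧
      theta (twoQ_nondeg h2) (hcard_two h2) s = (-1, -1) ∧
      Nat.card ↥(Subgroup.closure {reflect (twoQ F) (Pi.single 0 1), s}) = 2 ^ cTwo q := by
  classical
  have : Fact (Nat.Prime 2) := ⟨Nat.prime_two⟩
  set θ := theta (twoQ_nondeg h2) (hcard_two h2) with hθ
  set r := reflect (twoQ F) (Pi.single 0 1) with hr
  have hr2 : r * r = 1 := reflect_sq _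
  have hθr : θ r = (-1, 1) := by
    have hv : twoQ F (Pi.single 0 1) = 1 := dQ_single _ _
    rw [hθ, hr, theta_reflect _ _ (by rw [hv]; exact one_ne_zero), hv, chi_one]
  have hsurj : Function.Surjective θ := by
    obtain ⟨ν, hν0, hν⟩ := exists_nonsquare h2
    obtain ⟨x, y, hxy⟩ := Bases.exists_sq_add_sq h2 (one_ne_zero : (1 : F) ≠ 0) one_ne_zero ν
    have hv : twoQ F ![x, y] = ν := by simp [twoQ_apply]; linear_combination hxy
    have hu : θ (reflect (twoQ F) ![x, y]) = (-1, -1) := by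
      rw [hθ, theta_reflect _ _ (by rw [hv]; exact hν0), hv, hν]
    rintro ⟨a, b⟩
    rcases Int.units_eq_one_or a with rfl | rfl <;> rcases Int.units_eq_one_or b with rfl | rfl
    exacts [⟨1, map_one _⟩, ⟨r * reflect (twoQ F) ![x, y], by rw [map_mul, hθr, hu]; rfl⟩,
      ⟨r, hθr⟩, ⟨reflect (twoQ F) ![x, y], hu⟩]
  have hrp : IsPGroup 2 (Subgroup.zpowers r) := fun x => ⟨1, by
    obtain ⟨k, hk⟩ := Subgroup.mem_zpowers_iff.1 x.2
    refine Subtype.ext ?_
    show (x : Cfsg.isometryGroup F ⇑(twoQ F)) ^ 2 = 1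
    rw [← hk, sq, ← (Commute.refl r).mul_zpow, hr2, _root_.one_zpow]⟩
  obtain ⟨W, hW⟩ := hrp.exists_le_sylow
  have hWr : r ∈ (W : Subgroup _) := hW (Subgroup.mem_zpowers r)
  have himg : (W : Subgroup _).map θ = ⊤ := by
    rw [← Subgroup.index_eq_one]
    have h1 := Subgroup.index_map_dvd (W : Subgroup _) hsurj
    have h4 : ((W : Subgroup _).map θ).index ∣ 4 := by
      have := Subgroup.index_dvd_card ((W : Subgroup _).map θ)
      rwa [Nat.card_eq_fintype_card, Fintype.card_prod, Fintype.card_units_int] at this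
    refine Nat.eq_one_of_dvd_coprimes ?_ h1 h4
    rw [show (4 : ℕ) = 2 ^ 2 from rfl]
    exact Nat.Coprime.pow_right _ ((Nat.prime_two.coprime_iff_not_dvd).2 W.not_dvd_index).symm
  obtain ⟨s, hsW, hθs⟩ : ∃ s ∈ (W : Subgroup _), θ s = (-1, -1) := by
    have : ((-1 : ℤˣ), (-1 : ℤˣ)) ∈ (W : Subgroup _).map θ := himg ▸ Subgroup.mem_top _
    exact this
  have hs2 : s * s = 1 := det_neg_one_sq h2 (congrArg Prod.fst hθs)
  refine ⟨s, hs2, hθs, ?_⟩
  set D := Subgroup.closure ({r, s} : Set (Cfsg.isometryGroup F ⇑(twoQ F))) with hD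
  have hrD : r ∈ D := Subgroup.subset_closure (Or.inl rfl)
  have hsD : s ∈ D := Subgroup.subset_closure (Or.inr rfl)
  -- the rotations in `W`
  let C : Subgroup (Cfsg.isometryGroup F ⇑(twoQ F)) :=
    (W : Subgroup _) ⊓ ((MonoidHom.fst ℤˣ ℤˣ).comp θ).ker
  have hpar : ∀ z : C, par (z : Cfsg.isometryGroup F ⇑(twoQ F)) = 1 := fun z =>
    MonoidHom.mem_ker.1 z.2.2
  have hcomm : ∀ z w : C, z * w = w * z := fun z w => by
    refine Subtype.ext (Subtype.ext (Units.ext ?_))
    obtain ⟨a, b⟩ := det_one_form h2 (hpar z)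
    obtain ⟨c, d⟩ := det_one_form h2 (hpar w)
    show (z.1.1 : Matrix (Fin 2) (Fin 2) F) * w.1.1 = w.1.1 * z.1.1
    ext i j
    fin_cases i <;> fin_cases j <;>
      simp [Matrix.mul_apply, Fin.sum_univ_two, a, b, c, d] <;> ring
  letI : CommGroup C := { (inferInstance : Group C) with mul_comm := hcomm }
  let ρ : C := ⟨r * s, mul_mem hWr hsW, by
    show (θ (r * s)).1 = 1
    rw [map_mul, hθr, hθs]; rfl⟩
  have hker : Nat.card (powMonoidHom 2 : C →* C).ker ≤ 2 := by
    have key : ∀ z : (powMonoidHom 2 : C →* C).ker,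
        (z.1.1.1 : Matrix (Fin 2) (Fin 2) F) = 1 ∨ (z.1.1.1 : Matrix (Fin 2) (Fin 2) F) = -1 := by
      rintro ⟨z, hz⟩
      obtain ⟨a, b⟩ := det_one_form h2 (hpar z)
      have hT := transpose_mul_self h2 z.1
      have hz' : (z.1.1 : Matrix (Fin 2) (Fin 2) F) * z.1.1 = 1 := by
        have := congrArg (fun x : C => (x.1.1 : Matrix (Fin 2) (Fin 2) F)) (MonoidHom.mem_ker.1 hz)
        simpa [sq] using this
      show (z.1.1 : Matrix (Fin 2) (Fin 2) F) = 1 ∨ (z.1.1 : Matrix (Fin 2) (Fin 2) F) = -1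
      set A := (z.1.1 : Matrix (Fin 2) (Fin 2) F) with hA
      have hsym : Aᵀ = A := by
        calc Aᵀ = Aᵀ * (A * A) := by rw [hz', mul_one]
          _ = A := by rw [← mul_assoc, hT, one_mul]
      have h01 := congrFun (congrFun hsym 0) 1
      simp at h01
      have hb : A 1 0 = 0 := by
        have : (2 : F) * A 1 0 = 0 := by linear_combination h01 + b
        exact (mul_eq_zero.1 this).resolve_left h2
      have h00 := congrFun (congrFun hz' 0) 0
      simp [Matrix.mul_apply, Fin.sum_univ_two, hb, b] at h00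
      rcases mul_self_eq_one_iff.1 h00 with h | h
      · left; ext i j; fin_cases i <;> fin_cases j <;> simp [a, b, hb, h]
      · right; ext i j; fin_cases i <;> fin_cases j <;> simp [a, b, hb, h]
    calc Nat.card (powMonoidHom 2 : C →* C).ker
        ≤ Nat.card Bool := by
          refine Nat.card_le_card_of_injective
            (fun z => decide ((z.1.1.1 : Matrix (Fin 2) (Fin 2) F) = 1)) fun z w hzw => ?_
          refine Subtype.ext (Subtype.ext (Subtype.ext (Units.ext ?_)))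
          simp only [decide_eq_decide] at hzw
          rcases key z with h | h
          · rw [h, hzw.1 h]
          · rcases key w with h' | h'
            · rw [h', hzw.2 h']
            · rw [h, h']
      _ = 2 := by simp
  have hρ : ρ ∉ (powMonoidHom 2 : C →* C).range := by
    rintro ⟨y, hy⟩
    have h := congrArg (fun x : C => θ x.1) hy
    simp only [powMonoidHom_apply, sq] at h
    rw [show ((y * y : C) : Cfsg.isometryGroup F ⇑(twoQ F)) = y.1 * y.1 from rfl, map_mul,
      show θ y.1 * θ y.1 = 1 from Prod.ext (Int.units_mul_self _) (Int.units_mul_self _)] at h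
    simp [ρ, hθr, hθs, Prod.ext_iff] at h
  have hidx : (powMonoidHom 2 : C →* C).range.index = 2 := by
    have h1 := Subgroup.card_mul_index (powMonoidHom 2 : C →* C).ker
    rw [Subgroup.index_ker] at h1
    have h3 := Subgroup.card_mul_index (powMonoidHom 2 : C →* C).range
    have hne : (powMonoidHom 2 : C →* C).range.index ≠ 1 := fun h =>
      hρ (Subgroup.index_eq_one.1 h ▸ Subgroup.mem_top _)
    have h0 : (powMonoidHom 2 : C →* C).range.index ≠ 0 := Subgroup.index_ne_zero_of_finite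
    have : (powMonoidHom 2 : C →* C).range.index = Nat.card (powMonoidHom 2 : C →* C).ker := by
      refine Nat.eq_of_mul_eq_mul_left (Nat.card_pos (α := (powMonoidHom 2 : C →* C).range)) ?_
      rw [h3, mul_comm, h1]
    omega
  have hstep : ∀ z : C, ∃ (k : ℕ) (y : C), z = ρ ^ k * y ^ 2 := by
    intro z
    by_cases hz : z ∈ (powMonoidHom 2 : C →* C).range
    · obtain ⟨y, rfl⟩ := hz
      exact ⟨0, y, by simp⟩
    · have : ρ * z ∈ (powMonoidHom 2 : C →* C).range :=
        (Subgroup.mul_mem_iff_of_index_two hidx).2 (iff_of_false hρ hz)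
      obtain ⟨y, hy⟩ := this
      refine ⟨Nat.card C - 1, y, ?_⟩
      rw [powMonoidHom_apply] at hy
      rw [hy, ← mul_assoc, ← pow_succ, Nat.sub_add_cancel Nat.card_pos, pow_card_eq_one', one_mul]
  have hiter : ∀ (n : ℕ) (z : C), ∃ (k : ℕ) (y : C), z = ρ ^ k * y ^ 2 ^ n := by
    intro n
    induction n with
    | zero => exact fun z => ⟨0, z, by simp⟩
    | succ n ih =>
      intro z
      obtain ⟨k, y, rfl⟩ := ih z
      obtain ⟨j, w, rfl⟩ := hstep y
      exact ⟨k + j * 2 ^ n, w, by rw [mul_pow, ← pow_mul, ← pow_mul, pow_add, ← pow_succ', mul_assoc]⟩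
  have hCD : ∀ z : C, (z : Cfsg.isometryGroup F ⇑(twoQ F)) ∈ D := by
    intro z
    obtain ⟨n, hn⟩ := (IsPGroup.iff_card.1 W.isPGroup')
    obtain ⟨k, y, rfl⟩ := hiter n z
    have hy : (y ^ 2 ^ n).1 = 1 := by
      have h := pow_card_eq_one' (x := (⟨y.1, y.2.1⟩ : (W : Subgroup _)))
      rw [hn] at h
      exact congrArg Subtype.val h
    show ((ρ ^ k).1 * (y ^ 2 ^ n).1) ∈ D
    rw [hy, mul_one, Subgroup.coe_pow]
    exact pow_mem (mul_mem hrD hsD) k
  have hDW : D = (W : Subgroup _) := by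
    refine le_antisymm ((Subgroup.closure_le _).2 ?_) fun z hz => ?_
    · rintro _ (rfl | rfl)
      exacts [hWr, hsW]
    · rcases Int.units_eq_one_or (θ z).1 with h | h
      · exact hCD ⟨z, hz, h⟩
      · have h' : r * z ∈ D := hCD ⟨r * z, mul_mem hWr hz, by
          show (θ (r * z)).1 = 1
          rw [map_mul, hθr]
          show (-1 : ℤˣ) * (θ z).1 = 1
          rw [h]; rfl⟩
        have := mul_mem hrD h'
        rwa [← mul_assoc, hr2, one_mul] at this
  rw [hDW, W.card_eq_multiplicity, v2_card_twoQ hF hodd]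

end Cfsg.Agent.SylowAb
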