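import Mathlib
import Cfsg.Agent.Lib.SylowAb.Monomial
import Cfsg.Agent.Lib.SylowAb.OmegaConfig
import Cfsg.Agent.Lib.SylowAb.OrthTwo

/-!
# Sylow `2`-subgroups of `Ω` for the forms `Σ (x_i² + y_i²) + Σ w_c z_c²`
-/

set_option autoImplicit false
set_option linter.unusedSectionVars false

namespace Cfsg.Agent.SylowAb

open Matrix Equiv Cfsg.Agent.Forms Cfsg.Agent.Forms.QuadStd Cfsg.Agent.Forms.Reflections
open Cfsg.Agent.Forms.Spinor Cfsg.Agent.Classical.OmegaCrit

variable {F : Type*} [Field F] {k : ℕ} {κ : Type} [Fintype κ] [DecidableEq κ] (w : κ → F)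

/-- the index type of the model -/
abbrev MIdx (k : ℕ) (κ : Type) : Type := (Fin 2 × Fin k) ⊕ κ

/-- the model form -/
noncomputable def modelQ (k : ℕ) (w : κ → F) : QuadraticForm F (MIdx k κ → F) :=
  dQ (Sum.elim (fun _ => 1) w)

theorem modelQ_apply (v : MIdx k κ → F) :
    modelQ k w v = ∑ i : Fin k, twoQ F (fun a => v (Sum.inl (a, i))) +
      ∑ c, w c * (v (Sum.inr c) * v (Sum.inr c)) := by
  simp [modelQ, dQ_apply, twoQ_apply, Fintype.sum_sum_type, Fintype.sum_prod_type,
    Fin.sum_univ_two, Finset.sum_add_distrib]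

theorem modelQ_nondeg (h2 : (2 : F) ≠ 0) (hw : ∀ c, w c ≠ 0) :
    (QuadraticMap.polarBilin (modelQ k w)).Nondegenerate :=
  dQ_nondeg h2 (by rintro (p | c) <;> simp [hw])

/-- the group of the model -/
noncomputable abbrev MO (k : ℕ) (w : κ → F) := Cfsg.isometryGroup F ⇑(modelQ k w)

/-- extending by the identity on the extra coordinates -/
def extGL (F : Type*) [Field F] (k : ℕ) (κ : Type) [Fintype κ] [DecidableEq κ] :
    GL (Fin 2 × Fin k) F →* GL (MIdx k κ) F :=
  Units.map
    { toFun := fun A => Matrix.fromBlocks A 0 0 1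
      map_one' := Matrix.fromBlocks_one
      map_mul' := fun A B => by simp [Matrix.fromBlocks_multiply] }

theorem extGL_coe (g : GL (Fin 2 × Fin k) F) :
    (extGL F k κ g : Matrix (MIdx k κ) (MIdx k κ) F) =
      Matrix.fromBlocks (g : Matrix (Fin 2 × Fin k) (Fin 2 × Fin k) F) 0 0 1 := rfl

theorem extGL_injective : Function.Injective (extGL F k κ) := fun g h e => by
  have e' := congrArg Units.val e
  rw [extGL_coe, extGL_coe, Matrix.fromBlocks_inj] at e'
  exact Units.ext e'.1

theorem extGL_mulVec (g : GL (Fin 2 × Fin k) F) (v : MIdx k κ → F) :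
    (extGL F k κ g : Matrix (MIdx k κ) (MIdx k κ) F) *ᵥ v =
      Sum.elim ((g : Matrix (Fin 2 × Fin k) (Fin 2 × Fin k) F) *ᵥ (v ∘ Sum.inl)) (v ∘ Sum.inr) := by
  rw [extGL_coe, Matrix.fromBlocks_mulVec]
  simp

theorem blockDiagonal_mulVec' (f : Fin k → Matrix (Fin 2) (Fin 2) F) (u : Fin 2 × Fin k → F)
    (a : Fin 2) (i : Fin k) :
    (Matrix.blockDiagonal f *ᵥ u) (a, i) = (f i *ᵥ fun b => u (b, i)) a := by
  simp [Matrix.mulVec, dotProduct, Matrix.blockDiagonal_apply, Fintype.sum_prod_type]

theorem pmat_mulVec (σ : Perm (Fin k)) (u : Fin 2 × Fin k → F) (a : Fin 2) (i : Fin k) :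
    (pmat (Fin 2) F σ *ᵥ u) (a, i) = u (a, σ.symm i) := by
  rw [Matrix.mulVec, dotProduct, Finset.sum_eq_single (a, σ.symm i)]
  · simp [pmat, Matrix.one_apply, Prod.map]
  · intro z _ hz
    have : (a, i) ≠ Prod.map id σ z := fun h => hz (by
      obtain ⟨z1, z2⟩ := z
      simp [Prod.map] at h
      simp [h.1, h.2])
    simp [pmat, Matrix.one_apply, this]
  · simp

theorem ext_block_mem (f : Fin k → Cfsg.isometryGroup F ⇑(twoQ F)) :
    extGL F k κ (blockGL fun i => (f i).1) ∈ Cfsg.isometryGroup F ⇑(modelQ k w) := by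
  rw [mem_isometry_iff]
  intro v
  rw [modelQ_apply, modelQ_apply, extGL_mulVec, blockGL_coe]
  congr 1
  refine Finset.sum_congr rfl fun i _ => ?_
  simp only [Sum.elim_inl, blockDiagonal_mulVec']
  exact iso_mulVec (f i) fun b => v (Sum.inl (b, i))

theorem ext_perm_mem (σ : Perm (Fin k)) :
    extGL F k κ (permGL (a := Fin 2) (R := F) σ) ∈ Cfsg.isometryGroup F ⇑(modelQ k w) := by
  rw [mem_isometry_iff]
  intro v
  rw [modelQ_apply, modelQ_apply, extGL_mulVec, permGL_coe]
  congr 1
  simp only [Sum.elim_inl, pmat_mulVec]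
  exact σ.symm.sum_comp fun i => twoQ F fun a => v (Sum.inl (a, i))

/-- the block monomial subgroup of the model group -/
noncomputable def oMono : Mono (MO k w) (Cfsg.isometryGroup F ⇑(twoQ F)) (Fin k) :=
  (((matMono (Fin 2) (Fin k) F).push (extGL F k κ) extGL_injective).pull
    (Cfsg.isometryGroup F ⇑(twoQ F)).subtype Subtype.val_injective).restrict
    (Cfsg.isometryGroup F ⇑(modelQ k w)) (fun f => ext_block_mem w f) (fun σ => ext_perm_mem w σ)

theorem act_b (f : Fin k → Cfsg.isometryGroup F ⇑(twoQ F)) (v : MIdx k κ → F) :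
    act ((oMono w).b f) v =
      Sum.elim (fun p => ((f p.2).1 : Matrix (Fin 2) (Fin 2) F).mulVec
        (fun b => v (Sum.inl (b, p.2))) p.1) (v ∘ Sum.inr) := by
  rw [act_apply]
  show (extGL F k κ (blockGL fun i => (f i).1) : Matrix (MIdx k κ) (MIdx k κ) F) *ᵥ v = _
  rw [extGL_mulVec, blockGL_coe]
  funext x
  rcases x with ⟨a, i⟩ | c
  · simp [blockDiagonal_mulVec']
  · rfl

theorem act_p (σ : Perm (Fin k)) (v : MIdx k κ → F) :
    act ((oMono w).p σ) v =
      Sum.elim (fun p => v (Sum.inl (p.1, σ.symm p.2))) (v ∘ Sum.inr) := by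
  rw [act_apply]
  show (extGL F k κ (permGL (a := Fin 2) (R := F) σ) : Matrix (MIdx k κ) (MIdx k κ) F) *ᵥ v = _
  rw [extGL_mulVec, permGL_coe]
  funext x
  rcases x with ⟨a, i⟩ | c
  · simp [pmat_mulVec]
  · rfl

/-- a vector in one block -/
def emb (i : Fin k) (u : Fin 2 → F) : MIdx k κ → F :=
  Sum.elim (fun p => if p.2 = i then u p.1 else 0) 0

theorem modelQ_polar (u v : MIdx k κ → F) :
    QuadraticMap.polar (modelQ k w) u v =
      2 * (∑ i : Fin k, ∑ a : Fin 2, u (Sum.inl (a, i)) * v (Sum.inl (a, i)) +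
        ∑ c, w c * (u (Sum.inr c) * v (Sum.inr c))) := by
  rw [modelQ, dQ_polar]
  congr 1
  simp [Fintype.sum_sum_type, Fintype.sum_prod_type, Fin.sum_univ_two, Finset.sum_add_distrib]

theorem modelQ_emb (i : Fin k) (u : Fin 2 → F) : modelQ k w (emb i u) = twoQ F u := by
  rw [modelQ_apply, Finset.sum_eq_single i]
  · simp [emb]
  · intro j _ hj
    simp [emb, hj, twoQ_apply]
  · simp

theorem polar_emb (i : Fin k) (u : Fin 2 → F) (v : MIdx k κ → F) :
    QuadraticMap.polar (modelQ k w) (emb i u) v =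
      QuadraticMap.polar (twoQ F) u fun a => v (Sum.inl (a, i)) := by
  rw [modelQ_polar, twoQ, dQ_polar, Finset.sum_eq_single i]
  · simp [emb, Fin.sum_univ_two]
  · intro j _ hj
    simp [emb, hj]
  · simp

theorem at'_reflect (i : Fin k) (u : Fin 2 → F) :
    (oMono w).at' i (reflect (twoQ F) u) = reflect (modelQ k w) (emb i u) := by
  refine iso_ext fun v => ?_
  rw [← act_apply, ← act_apply, Mono.at'_apply, act_b, act_reflect, polar_emb, modelQ_emb]
  funext x
  rcases x with ⟨a, j⟩ | c
  · simp only [Sum.elim_inl, Pi.sub_apply, Pi.smul_apply, smul_eq_mul]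
    by_cases hji : j = i
    · subst hji
      rw [Pi.mulSingle_eq_same, ← act_apply, act_reflect]
      simp [emb]
    · rw [Pi.mulSingle_eq_of_ne hji]
      simp [emb, hji]
  · simp [emb]

/-- an extra coordinate vector -/
def extraVec (c : κ) : MIdx k κ → F := Pi.single (Sum.inr c) 1

theorem modelQ_extra (c : κ) : modelQ k w (extraVec (k := k) c) = w c := by
  rw [modelQ, extraVec, dQ_single, Sum.elim_inr]

theorem polar_extra (c : κ) (v : MIdx k κ → F) :
    QuadraticMap.polar (modelQ k w) (extraVec c) v = 2 * (w c * v (Sum.inr c)) := by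
  simp [modelQ, extraVec, dQ_polar, Pi.single_apply]

theorem act_b_extra (f : Fin k → Cfsg.isometryGroup F ⇑(twoQ F)) (c : κ) :
    act ((oMono w).b f) (extraVec (k := k) c) = extraVec c := by
  rw [act_b]
  funext x
  rcases x with ⟨a, i⟩ | d
  · simp [extraVec, Matrix.mulVec, dotProduct, Pi.single_apply]
  · rfl

theorem act_p_extra (σ : Perm (Fin k)) (c : κ) :
    act ((oMono w).p σ) (extraVec (k := k) c) = extraVec c := by
  rw [act_p]
  funext x
  rcases x with ⟨a, i⟩ | d
  · simp [extraVec, Pi.single_apply]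
  · rfl

/-- signs on the extra coordinates -/
def sgnGL (F : Type*) [Field F] (k : ℕ) (κ : Type) [Fintype κ] [DecidableEq κ] :
    (κ → ℤˣ) →* GL (MIdx k κ) F :=
  MonoidHom.toHomUnits
    { toFun := fun ε => Matrix.diagonal (Sum.elim (fun _ => 1) fun c => (((ε c : ℤˣ) : ℤ) : F))
      map_one' := by
        rw [← Matrix.diagonal_one]
        congr 1
        funext x
        rcases x with p | c <;> simp
      map_mul' := fun ε δ => by
        rw [Matrix.diagonal_mul_diagonal]
        congr 1
        funext x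
        rcases x with p | c <;> simp }

theorem sgnGL_mulVec (ε : κ → ℤˣ) (v : MIdx k κ → F) :
    (sgnGL F k κ ε : Matrix (MIdx k κ) (MIdx k κ) F) *ᵥ v =
      Sum.elim (v ∘ Sum.inl) (fun c => (((ε c : ℤˣ) : ℤ) : F) * v (Sum.inr c)) := by
  show Matrix.diagonal (Sum.elim (fun _ => (1 : F)) fun c => (((ε c : ℤˣ) : ℤ) : F)) *ᵥ v = _
  funext x
  rw [Matrix.mulVec_diagonal]
  rcases x with p | c <;> simp

/-- signs on the extra coordinates, as isometries -/
noncomputable def oSgn : (κ → ℤˣ) →* MO k w :=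
  (sgnGL F k κ).codRestrict _ fun ε => by
    rw [mem_isometry_iff]
    intro v
    rw [modelQ_apply, modelQ_apply, sgnGL_mulVec]
    congr 1
    refine Finset.sum_congr rfl fun c _ => ?_
    rcases Int.units_eq_one_or (ε c) with h | h <;> simp [h]

theorem oSgn_injective (h2 : (2 : F) ≠ 0) : Function.Injective (oSgn (k := k) w) := by
  intro ε δ h
  funext c
  have h' := congrArg (fun g : MO k w => act g (extraVec (k := k) c) (Sum.inr c)) h
  simp only [act_apply, oSgn, MonoidHom.codRestrict_apply, sgnGL_mulVec] at h'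
  simp [extraVec] at h'
  rcases Int.units_eq_one_or (ε c) with h1 | h1 <;>
    rcases Int.units_eq_one_or (δ c) with h3 | h3 <;> simp [h1, h3] at h' ⊢
  · exact h2 (by linear_combination h')
  · exact h2 (by linear_combination -h')

theorem oSgn_single (c : κ) (hc : w c ≠ 0) :
    oSgn (k := k) w (Pi.mulSingle c (-1)) = reflect (modelQ k w) (extraVec c) := by
  refine iso_ext fun v => ?_
  rw [← act_apply, ← act_apply, act_reflect, polar_extra, modelQ_extra, act_apply]
  simp only [oSgn, MonoidHom.codRestrict_apply, sgnGL_mulVec]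
  funext x
  rcases x with p | d
  · simp [extraVec]
  · by_cases hd : d = c
    · subst hd
      simp [extraVec]
      field_simp
      ring
    · simp [extraVec, hd]

theorem extGL_commute_sgn (g : GL (Fin 2 × Fin k) F) (ε : κ → ℤˣ) :
    Commute (extGL F k κ g) (sgnGL F k κ ε) := by
  refine Units.ext (Matrix.ext_iff_mulVec.2 fun v => ?_)
  rw [Units.val_mul, Units.val_mul, ← Matrix.mulVec_mulVec, ← Matrix.mulVec_mulVec, extGL_mulVec,
    extGL_mulVec, sgnGL_mulVec, sgnGL_mulVec]
  rfl

variable [Fintype F]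

theorem hcard_model (h2 : (2 : F) ≠ 0) :
    Fintype.card F ≠ 2 ∨ Fintype.card (MIdx k κ) ≠ 4 := Or.inl fun hh => h2 (by
  have : (Fintype.card F : F) = 0 := FiniteField.cast_card_eq_zero F
  rw [hh] at this
  exact_mod_cast this)

theorem theta_at' (h2 : (2 : F) ≠ 0) (hw : ∀ c, w c ≠ 0) (i : Fin k)
    (g : Cfsg.isometryGroup F ⇑(twoQ F)) :
    theta (modelQ_nondeg w h2 hw) (hcard_model h2) ((oMono w).at' i g) =
      theta (twoQ_nondeg h2) (hcard_two h2) g := by
  obtain ⟨vs, hvs, rfl⟩ := exists_list (twoQ_nondeg h2) (hcard_two h2) g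
  induction vs with
  | nil => simp
  | cons u vs ih =>
    simp only [List.mem_cons, forall_eq_or_imp] at hvs
    rw [List.map_cons, List.prod_cons, map_mul, map_mul, map_mul, ih hvs.2, at'_reflect,
      theta_reflect _ _ (by rw [modelQ_emb]; exact hvs.1), modelQ_emb,
      theta_reflect _ _ hvs.1]

/-- the difference of two coordinate vectors -/
def diffVec (a : Fin 2) (i j : Fin k) : MIdx k κ → F :=
  Pi.single (Sum.inl (a, i)) 1 - Pi.single (Sum.inl (a, j)) 1

theorem modelQ_diff (a : Fin 2) {i j : Fin k} (hij : i ≠ j) :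
    modelQ k w (diffVec a i j) = 2 := by
  rw [modelQ, dQ_apply, Fintype.sum_sum_type]
  simp [diffVec, Pi.single_apply, Fintype.sum_prod_type, Fin.sum_univ_two, sub_mul, mul_sub,
    Finset.sum_sub_distrib]
  fin_cases a <;> simp [hij, hij.symm] <;> norm_num

theorem polar_diff (a : Fin 2) (i j : Fin k) (v : MIdx k κ → F) :
    QuadraticMap.polar (modelQ k w) (diffVec a i j) v =
      2 * (v (Sum.inl (a, i)) - v (Sum.inl (a, j))) := by
  rw [modelQ, dQ_polar]
  simp [diffVec, sub_mul, mul_sub, Finset.sum_sub_distrib, Pi.single_apply]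

theorem p_swap (h2 : (2 : F) ≠ 0) {i j : Fin k} (hij : i ≠ j) :
    (oMono w).p (Equiv.swap i j) =
      reflect (modelQ k w) (diffVec 0 i j) * reflect (modelQ k w) (diffVec 1 i j) := by
  refine iso_ext fun v => ?_
  rw [← act_apply, ← act_apply, act_mul, act_p, act_reflect, act_reflect, modelQ_diff w 0 hij,
    modelQ_diff w 1 hij, polar_diff, polar_diff]
  have hc : ∀ x : F, (2 : F)⁻¹ * (2 * x) = x := fun x => by field_simp
  rw [hc, hc]
  funext x
  rcases x with ⟨a, l⟩ | c
  · simp only [Sum.elim_inl, Equiv.symm_swap, Pi.sub_apply, Pi.smul_apply, smul_eq_mul, diffVec]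
    by_cases h1 : l = i
    · subst h1
      fin_cases a <;> simp [hij, hij.symm]
    · by_cases h3 : l = j
      · subst h3
        fin_cases a <;> simp [hij, hij.symm]
      · fin_cases a <;> simp [h1, h3, Equiv.swap_apply_of_ne_of_ne h1 h3]
  · simp [diffVec]

theorem p_mem_omega (h2 : (2 : F) ≠ 0) (hw : ∀ c, w c ≠ 0) (σ : Perm (Fin k)) :
    (oMono w).p σ ∈ commutator (MO k w) := by
  induction σ using Equiv.Perm.swap_induction_on with
  | one => rw [map_one]; exact one_mem _
  | swap_mul f x y hxy ih =>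
    rw [map_mul]
    refine mul_mem ?_ ih
    refine (mem_omega_iff (modelQ_nondeg w h2 hw) (hcard_model h2) _).2 ?_
    rw [p_swap w h2 hxy, map_mul, theta_reflect _ _ (by rw [modelQ_diff w 0 hxy]; exact h2),
      theta_reflect _ _ (by rw [modelQ_diff w 1 hxy]; exact h2), modelQ_diff w 0 hxy,
      modelQ_diff w 1 hxy]
    exact Prod.ext (Int.units_mul_self _) (Int.units_mul_self _)

open scoped _root_.Classical in
/-- Sylow `2`-subgroups of `Ω` of the model have elementary abelian abelianization -/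
theorem model_sqDer {q : ℕ} (hF : Fintype.card F = q) (hodd : Odd q) (hk : 2 ≤ k)
    (hw : ∀ c, w c ≠ 0)
    (hv : (Nat.card (MO k w)).factorization 2 =
      k * cTwo q + k.factorial.factorization 2 + Fintype.card κ)
    (P : Sylow 2 (commutator (MO k w))) : SqDer (P : Subgroup (commutator (MO k w))) := by
  have h2 : (2 : F) ≠ 0 := Cfsg.Agent.Classical.OrthForms.two_ne_zero_of_odd (hF ▸ hodd)
  obtain ⟨s, hs2, hθs, hcardD⟩ := exists_twoQ_gens hF hodd h2
  obtain ⟨d⟩ := exists_permSylow k
  set r := reflect (twoQ F) (Pi.single 0 1) with hr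
  set M := oMono (k := k) w with hM
  set θ := theta (modelQ_nondeg (k := k) w h2 hw) (hcard_model (k := k) (κ := κ) h2) with hθ
  have hθr : theta (twoQ_nondeg h2) (hcard_two h2) r = (-1, 1) := by
    have hv' : twoQ F (Pi.single 0 1) = 1 := dQ_single _ _
    rw [hr, theta_reflect _ _ (by rw [hv']; exact one_ne_zero), hv', chi_one]
  let R : κ → MO k w := fun c => reflect (modelQ k w) (extraVec c)
  have hR : ∀ c, θ (R c) = (-1, chi (w c)) := fun c => by
    rw [hθ, theta_reflect _ _ (by rw [modelQ_extra]; exact hw c), modelQ_extra]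
  let x : Fin k ⊕ {c // IsSquare (w c)} → MO k w :=
    Sum.elim (fun i => M.at' i r) fun c => R c.1
  let y : Fin k ⊕ {c // ¬ IsSquare (w c)} → MO k w :=
    Sum.elim (fun i => M.at' i s) fun c => R c.1
  have hθx : ∀ a, θ (x a) = (-1, 1) := by
    rintro (i | c)
    · rw [hθ, show x (Sum.inl i) = M.at' i r from rfl, hM, theta_at' w h2 hw, hθr]
    · rw [show x (Sum.inr c) = R c.1 from rfl, hR, chi_eq_one_iff.2 c.2]
  have hθy : ∀ a, θ (y a) = (-1, -1) := by
    rintro (i | c)
    · rw [hθ, show y (Sum.inl i) = M.at' i s from rfl, hM, theta_at' w h2 hw, hθs]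
    · rw [show y (Sum.inr c) = R c.1 from rfl, hR, chi_eq_neg_one_iff.2 c.2]
  have cR : ∀ i g c, Commute (M.at' i g) (R c) := fun i g c => by
    have h := reflect_conj (M.at' i g) (extraVec (k := k) c : MIdx k κ → F)
    rw [hM, Mono.at'_apply, act_b_extra] at h
    exact mul_inv_eq_iff_eq_mul.1 h
  have cpR : ∀ σ c, M.p σ * R c * (M.p σ)⁻¹ = R c := fun σ c => by
    rw [reflect_conj, hM, act_p_extra]
  have cRR : ∀ c e, Commute (R c) (R e) := fun c e => by
    show R c * R e = R e * R c
    rw [show R c = oSgn w (Pi.mulSingle c (-1)) from (oSgn_single w c (hw c)).symm,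
      show R e = oSgn w (Pi.mulSingle e (-1)) from (oSgn_single w e (hw e)).symm,
      ← map_mul, ← map_mul, mul_comm]
  have hinvR : ∀ c, R c * R c = 1 := fun c => reflect_sq _
  have cSame : ∀ i j g, Commute (M.at' i g) (M.at' j g) := fun i j g => by
    rcases eq_or_ne i j with rfl | h
    · exact Commute.refl _
    · exact M.commute_at h g g
  let C : OConfig (MO k w) (Cfsg.isometryGroup F ⇑(twoQ F)) (Fin k) :=
    { M := M, d := d
      J := Fin k ⊕ {c // IsSquare (w c)}
      J' := Fin k ⊕ {c // ¬ IsSquare (w c)}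
      x := x, y := y, ix := Sum.inl, iy := Sum.inl, r := r, s := s
      hix := fun _ => rfl
      hiy := fun _ => rfl
      ix_inj := Sum.inl_injective
      iy_inj := Sum.inl_injective
      invx := by
        rintro (i | c)
        · show M.at' i r * M.at' i r = 1
          rw [← map_mul, hr, reflect_sq, map_one]
        · exact hinvR _
      invy := by
        rintro (i | c)
        · show M.at' i s * M.at' i s = 1
          rw [← map_mul, hs2, map_one]
        · exact hinvR _
      cxx := by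
        rintro (i | c) (j | e)
        exacts [cSame _ _ _, cR _ _ _, (cR _ _ _).symm, cRR _ _]
      cyy := by
        rintro (i | c) (j | e)
        exacts [cSame _ _ _, cR _ _ _, (cR _ _ _).symm, cRR _ _]
      cxy := by
        rintro (i | c) (j | e) h
        exacts [M.commute_at (fun hij => h i ⟨rfl, by rw [hij]⟩) _ _, cR _ _ _, (cR _ _ _).symm,
          cRR _ _]
      px := by
        rintro σ (i | c)
        exacts [⟨Sum.inl (σ i), M.conj_at' σ i r⟩, ⟨Sum.inr c, cpR σ c.1⟩]
      py := by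
        rintro σ (i | c)
        exacts [⟨Sum.inl (σ i), M.conj_at' σ i s⟩, ⟨Sum.inr c, cpR σ c.1⟩]
      xx := fun a b => (mem_omega_iff (modelQ_nondeg w h2 hw) (hcard_model h2) _).2 (by
        rw [← hθ, map_mul, hθx, hθx]; rfl)
      yy := fun a b => (mem_omega_iff (modelQ_nondeg w h2 hw) (hcard_model h2) _).2 (by
        rw [← hθ, map_mul, hθy, hθy]; rfl)
      pmem := fun σ => p_mem_omega w h2 hw σ }
  have hsub := M.sub_eq_closure (W0 := Subgroup.closure {r, s}) (A := {r, s}) rfl d.gen
  obtain ⟨A, hA⟩ : ∃ A, A = M.sub (Subgroup.closure {r, s}) d.T := ⟨_, rfl⟩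
  have hbig : C.big = A ⊔ (oSgn w).range := by
    apply le_antisymm
    · refine (Subgroup.closure_le _).2 ?_
      rintro g ((⟨a, rfl⟩ | ⟨a, rfl⟩) | hg)
      · rcases a with i | c
        · exact Subgroup.mem_sup_left
            (hA.symm ▸ M.at'_mem d.T i (Subgroup.subset_closure (Or.inl rfl)))
        · exact Subgroup.mem_sup_right ⟨_, oSgn_single w c.1 (hw _)⟩
      · rcases a with i | c
        · exact Subgroup.mem_sup_left
            (hA.symm ▸ M.at'_mem d.T i (Subgroup.subset_closure (Or.inr rfl)))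
        · exact Subgroup.mem_sup_right ⟨_, oSgn_single w c.1 (hw _)⟩
      · refine Subgroup.mem_sup_left ?_
        rw [hA, hsub]
        exact Subgroup.subset_closure (Or.inr hg)
    · refine sup_le ?_ ?_
      · rw [hA, hsub, Subgroup.closure_le]
        rintro g (hg | hg)
        · obtain ⟨i, u, hu, rfl⟩ := Set.mem_iUnion.1 hg
          rcases hu with rfl | rfl
          · exact Subgroup.subset_closure (Or.inl (Or.inl ⟨Sum.inl i, rfl⟩))
          · exact Subgroup.subset_closure (Or.inl (Or.inr ⟨Sum.inl i, rfl⟩))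
        · exact Subgroup.subset_closure (Or.inr hg)
      · rintro _ ⟨ε, rfl⟩
        refine Subgroup.pi_mem_of_mulSingle_mem (H := C.big.comap (oSgn w)) ε fun c => ?_
        rw [Subgroup.mem_comap]
        rcases Int.units_eq_one_or (ε c) with h | h <;> rw [h]
        · rw [Pi.mulSingle_one, map_one]; exact one_mem _
        · rw [oSgn_single w c (hw c)]
          by_cases hc : IsSquare (w c)
          · exact Subgroup.subset_closure (Or.inl (Or.inl ⟨Sum.inr ⟨c, hc⟩, rfl⟩))
          · exact Subgroup.subset_closure (Or.inl (Or.inr ⟨Sum.inr ⟨c, hc⟩, rfl⟩))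
  have hAext : A ≤ (extGL F k κ).range.comap (Cfsg.isometryGroup F ⇑(modelQ k w)).subtype := by
    rw [hA, Mono.sub]
    refine sup_le ?_ ?_
    · rintro _ ⟨f, -, rfl⟩; exact ⟨_, rfl⟩
    · rintro _ ⟨σ, -, rfl⟩; exact ⟨_, rfl⟩
  have hnorm : (oSgn w).range ≤ Subgroup.normalizer (A : Set (MO k w)) := by
    refine le_trans ?_ (Subgroup.centralizer_le_normalizer _)
    rintro _ ⟨ε, rfl⟩
    rw [Subgroup.mem_centralizer_iff]
    intro g hg
    obtain ⟨g₀, hg₀⟩ := hAext hg
    refine Subtype.ext ?_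
    show g.1 * sgnGL F k κ ε = sgnGL F k κ ε * g.1
    rw [show g.1 = extGL F k κ g₀ from hg₀.symm]
    exact extGL_commute_sgn g₀ ε
  have hdisj : Disjoint A (oSgn w).range := by
    rw [Subgroup.disjoint_def]
    rintro g hg ⟨ε, rfl⟩
    obtain ⟨g₀, hg₀⟩ := hAext hg
    have hε : ε = 1 := by
      refine oSgn_injective (k := k) w h2 ?_
      rw [map_one]
      refine iso_ext fun v => ?_
      have h1 := sgnGL_mulVec ε v
      have h3 := extGL_mulVec (κ := κ) g₀ v
      rw [hg₀] at h3
      show (sgnGL F k κ ε : Matrix (MIdx k κ) (MIdx k κ) F) *ᵥ v = (1 : Matrix _ _ F) *ᵥ v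
      replace h3 : (sgnGL F k κ ε : Matrix (MIdx k κ) (MIdx k κ) F) *ᵥ v = _ := h3
      rw [Matrix.one_mulVec]
      funext x
      rcases x with p | c
      · rw [h1]; rfl
      · rw [h3]; rfl
    rw [hε, map_one]
  have hcard : Nat.card C.big = 2 ^ (k * cTwo q + k.factorial.factorization 2 + Fintype.card κ) := by
    rw [hbig, card_sup hnorm hdisj, hA, M.card_sub_sylow d hcardD,
      ← Nat.card_congr (MonoidHom.ofInjective (oSgn_injective (k := k) w h2)).toEquiv, Nat.card_fun,
      Nat.card_eq_fintype_card (α := ℤˣ), Fintype.card_units_int,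
      Nat.card_eq_fintype_card (α := κ), Nat.card_eq_fintype_card (α := Fin k), Fintype.card_fin,
      ← pow_add]
  have hindex : (commutator (MO k w)).index = 4 :=
    omega_index (modelQ_nondeg w h2 hw) h2 (by simp; omega)
  refine C.omega_sylow (Sum.inl ⟨0, by omega⟩) (Sum.inl ⟨0, by omega⟩) hv hindex hcard
    (fun i => ?_) P
  rcases Nat.lt_or_ge k 3 with hk3 | hk3
  · obtain rfl : k = 2 := by omega
    refine Or.inr ?_
    by_contra hne
    push Not at hne
    obtain ⟨j, hj⟩ := exists_ne i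
    have key : ∀ z, Relation.ReflTransGen (Linked d.S) i z → z = i := by
      intro z hz
      induction hz with
      | refl => rfl
      | tail _ hl ih =>
        obtain ⟨σ, hσ, rfl⟩ := hl
        rw [ih]
        exact hne σ hσ
    exact hj (key j (d.trans 1 (by simp) i j))
  · obtain ⟨j, l, hji, hli, hjl⟩ : ∃ j l : Fin k, j ≠ i ∧ l ≠ i ∧ j ≠ l := by
      have h3 : 2 ≤ (Finset.univ.erase i).card := by simp; omega
      obtain ⟨j, hj, l, hl, hjl⟩ := Finset.one_lt_card.1 h3
      exact ⟨j, l, Finset.ne_of_mem_erase hj, Finset.ne_of_mem_erase hl, hjl⟩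
    exact Or.inl ⟨Sum.inl j, Sum.inl l, M.commute_at hji _ _, M.commute_at hli.symm _ _,
      M.commute_at hjl _ _⟩

end Cfsg.Agent.SylowAb
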