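import Mathlib
import Cfsg.Agent.Lib.SylowAb.OrthModel

/-!
# Sylow `2`-subgroups of `Ω` for the three standard families
-/

set_option autoImplicit false

namespace Cfsg.Agent.SylowAb

open Cfsg.Agent.Forms Cfsg.Agent.Classical.OrthForms Cfsg.Agent.Forms.PlusStd

variable {F : Type*} [Field F] [Fintype F]

/-- the property for `Ω` of a form -/
def OmegaSqDer {ι : Type} [Fintype ι] [DecidableEq ι] (f : (ι → F) → F) : Prop :=
  ∀ P : Sylow 2 (Cfsg.Omega F f), SqDer (P : Subgroup (Cfsg.Omega F f))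

theorem omegaSqDer_of_model {q : ℕ} (hF : Fintype.card F = q) (hodd : Odd q) {ι : Type}
    [Fintype ι] [DecidableEq ι] (Q : QuadraticForm F (ι → F))
    (hQ : (QuadraticMap.polarBilin Q).Nondegenerate) (k : ℕ) (hk : 2 ≤ k) {κ : Type} [Fintype κ]
    [DecidableEq κ] (w : κ → F) (hw : ∀ c, w c ≠ 0)
    (hn : Fintype.card ι = 2 * k + Fintype.card κ)
    (hd : IsSquare (discr Q * ∏ c, 2 * w c))
    (hv : (Nat.card (Cfsg.isometryGroup F ⇑Q)).factorization 2 =
      k * cTwo q + k.factorial.factorization 2 + Fintype.card κ) :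
    OmegaSqDer ⇑Q := by
  have h2 : (2 : F) ≠ 0 := two_ne_zero_of_odd (hF ▸ hodd)
  have hcard : Fintype.card ι = Fintype.card (MIdx k κ) := by
    rw [hn, Fintype.card_sum, Fintype.card_prod, Fintype.card_fin, Fintype.card_fin]
  obtain ⟨e⟩ := exists_iso h2 hQ (modelQ_nondeg w h2 hw) hcard (by
    rw [modelQ, discr_dQ, Fintype.prod_sum_type]
    simp only [Sum.elim_inl, Sum.elim_inr, mul_one, Finset.prod_const, Finset.card_univ,
      Fintype.card_prod, Fintype.card_fin]
    rw [← mul_assoc, mul_comm (discr Q), mul_assoc]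
    exact IsSquare.mul (Even.isSquare_pow ⟨k, two_mul k⟩ _) hd)
  intro P
  exact sqDer_commutator_transfer e.symm (model_sqDer w hF hodd hk hw
    (by rw [← Nat.card_congr e.toEquiv]; exact hv)) P

theorem isSquare_neg_one_pow_iff {q : ℕ} (hF : Fintype.card F = q) (hodd : Odd q) (m : ℕ) :
    IsSquare ((-1 : F) ^ m) ↔ q ^ m % 4 = 1 := by
  rcases Nat.even_or_odd' m with ⟨j, rfl | rfl⟩
  · refine iff_of_true ((even_two_mul j).isSquare_pow _) ?_
    rw [pow_mul, Nat.pow_mod, Nat.pow_mod q 2]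
    rcases (show q % 4 = 1 ∨ q % 4 = 3 by rw [Nat.odd_iff] at hodd; omega) with h | h <;>
      simp [h]
  · rw [(odd_two_mul_add_one j).neg_one_pow, FiniteField.isSquare_neg_one_iff, hF, pow_succ,
      pow_mul, Nat.mul_mod, Nat.pow_mod, Nat.pow_mod q 2]
    rcases (show q % 4 = 1 ∨ q % 4 = 3 by rw [Nat.odd_iff] at hodd; omega) with h | h <;>
      simp [h]

theorem pow_mod_four {q : ℕ} (hodd : Odd q) (m : ℕ) : q ^ m % 4 = 1 ∨ q ^ m % 4 = 3 := by
  have := Nat.odd_iff.1 (hodd.pow (n := m))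
  omega

theorem omegaSqDer_odd {q : ℕ} (hF : Fintype.card F = q) (hodd : Odd q) (m : ℕ) (hm : 2 ≤ m) :
    OmegaSqDer (Cfsg.quadFormOdd m F) := by
  have h2 : (2 : F) ≠ 0 := two_ne_zero_of_odd (hF ▸ hodd)
  have h1 : 1 < q := hF ▸ Fintype.one_lt_card
  rw [← oddQ_eq]
  refine omegaSqDer_of_model hF hodd (oddQ F m) (oddQ_nondeg h2 m) m hm
    (fun _ : Unit => (-1 : F) ^ m) (fun _ => pow_ne_zero _ (neg_ne_zero.2 one_ne_zero))
    (by simp; ring) ?_ ?_
  · rw [discr_odd]
    simpa using IsSquare.mul_self (2 * (-1 : F) ^ m)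
  · rw [natCard_O_odd hF h2, v2_mul (by simp [(zero_lt_one.trans h1).ne'])
      (Finset.prod_ne_zero_iff.2 fun i _ => pow_sub_one_ne_zero h1 (by omega)),
      v2_mul two_ne_zero (pow_ne_zero _ (zero_lt_one.trans h1).ne'), v2_prod hodd h1,
      v2_pow_odd hodd, v2_two, Fintype.card_unit]
    ring

theorem omegaSqDer_plus {q : ℕ} (hF : Fintype.card F = q) (hodd : Odd q) (m : ℕ) (hm : 1 ≤ m)
    (hm' : Even m ∨ 4 ≤ m) : OmegaSqDer (Cfsg.quadFormPlus m F) := by
  have h2 : (2 : F) ≠ 0 := two_ne_zero_of_odd (hF ▸ hodd)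
  have h1 : 1 < q := hF ▸ Fintype.one_lt_card
  have hm2 : 2 ≤ m := by
    rcases hm' with ⟨j, rfl⟩ | h <;> omega
  obtain ⟨j, rfl⟩ : ∃ j, m = j + 1 := ⟨m - 1, by omega⟩
  rw [← plusQ_eq]
  have hcard : (Nat.card (Cfsg.isometryGroup F ⇑(plusQ F (j + 1)))).factorization 2 =
      1 + (q ^ (j + 1) - 1).factorization 2 + (j * cTwo q + j.factorial.factorization 2) := by
    rw [natCard_O_plus hF, v2_mul (Nat.mul_ne_zero (by simp [(zero_lt_one.trans h1).ne'])
        (pow_sub_one_ne_zero h1 (by omega)))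
      (Finset.prod_ne_zero_iff.2 fun i _ => pow_sub_one_ne_zero h1 (by omega)),
      v2_mul (by simp [(zero_lt_one.trans h1).ne']) (pow_sub_one_ne_zero h1 (by omega)),
      v2_mul two_ne_zero (pow_ne_zero _ (zero_lt_one.trans h1).ne'), v2_prod hodd h1,
      v2_pow_odd hodd, v2_two]
  by_cases hsq : IsSquare ((-1 : F) ^ (j + 1))
  · refine omegaSqDer_of_model hF hodd (plusQ F (j + 1)) (plusQ_nondeg F _) (j + 1) hm2
      (fun x : Fin 0 => (1 : F)) (fun x => x.elim0) (by simp; ring) ?_ ?_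
    · simpa [discr_plus] using hsq
    · have hmod := (isSquare_neg_one_pow_iff hF hodd _).1 hsq
      have h := v2_pow_sub_of_one hodd h1 (by omega : j + 1 ≠ 0) hmod
      rw [hcard, Nat.factorial_succ, v2_mul (by omega) (Nat.factorial_ne_zero _), Fintype.card_fin,
        add_mul, one_mul]
      omega
  · have hj : 2 ≤ j := by
      rcases hm' with he | h
      · exact absurd (he.isSquare_pow _) hsq
      · omega
    refine omegaSqDer_of_model hF hodd (plusQ F (j + 1)) (plusQ_nondeg F _) j hj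
      (![1, (-1 : F) ^ (j + 1)]) (fun c => by fin_cases c <;> simp) (by simp; ring) ?_ ?_
    · rw [discr_plus, Fin.prod_univ_two]
      exact ⟨2 * (-1) ^ (j + 1), by simp; ring⟩
    · have hmod : q ^ (j + 1) % 4 = 3 :=
        (pow_mod_four hodd _).resolve_left fun h => hsq ((isSquare_neg_one_pow_iff hF hodd _).2 h)
      rw [hcard, v2_pow_sub_of_three hmod, Fintype.card_fin]
      omega

theorem omegaSqDer_minus {q : ℕ} (hF : Fintype.card F = q) (hodd : Odd q) (k : ℕ) (hk : 2 ≤ k)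
    (a b : F) (hab : ∀ z₁ z₂ : F, z₁ ^ 2 + a * z₁ * z₂ + b * z₂ ^ 2 = 0 → z₁ = 0 ∧ z₂ = 0) :
    OmegaSqDer (Cfsg.quadFormMinus k F a b) := by
  have h2 : (2 : F) ≠ 0 := two_ne_zero_of_odd (hF ▸ hodd)
  have h1 : 1 < q := hF ▸ Fintype.one_lt_card
  have hns := not_isSquare_disc h2 hab
  have hne : a ^ 2 - 4 * b ≠ 0 := fun h => hns (by rw [h]; exact IsSquare.zero)
  rw [← minQ_eq]
  have hcard : (Nat.card (Cfsg.isometryGroup F ⇑(minQ F k a b))).factorization 2 =
      1 + (q ^ (k + 1) + 1).factorization 2 + (k * cTwo q + k.factorial.factorization 2) := by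
    rw [minQ_eq, ← show k + 1 - 1 = k from rfl, S0288.result hF (k + 1) (by omega) a b hab]
    simp only [Nat.add_sub_cancel]
    rw [v2_mul (Nat.mul_ne_zero (by simp [(zero_lt_one.trans h1).ne']) (Nat.succ_ne_zero _))
      (Finset.prod_ne_zero_iff.2 fun i _ => pow_sub_one_ne_zero h1 (by omega)),
      v2_mul (by simp [(zero_lt_one.trans h1).ne']) (Nat.succ_ne_zero _),
      v2_mul two_ne_zero (pow_ne_zero _ (zero_lt_one.trans h1).ne'), v2_prod hodd h1,
      v2_pow_odd hodd, v2_two]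
  have hd : discr (minQ F k a b) = (-1 : F) ^ (k + 1) * (a ^ 2 - 4 * b) := by
    rw [discr_min]; ring
  by_cases hsq : IsSquare (discr (minQ F k a b))
  · refine omegaSqDer_of_model hF hodd (minQ F k a b) (minQ_nondeg k hab) (k + 1) (by omega)
      (fun x : Fin 0 => (1 : F)) (fun x => x.elim0) (by simp; ring) (by simpa using hsq) ?_
    have hmod : q ^ (k + 1) % 4 = 3 := (pow_mod_four hodd _).resolve_left fun h => by
      obtain ⟨r, hr⟩ := (isSquare_neg_one_pow_iff hF hodd _).2 h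
      obtain ⟨t, ht⟩ := hsq
      rw [hd, hr] at ht
      have hr0 : r ≠ 0 := by
        rintro rfl
        rw [mul_zero] at hr
        exact pow_ne_zero _ (neg_ne_zero.2 one_ne_zero) hr
      exact hns ⟨t / r, by field_simp; linear_combination ht⟩
    have h := v2_pow_add_of_three hodd h1 (by omega : k + 1 ≠ 0) hmod
    rw [hcard, Nat.factorial_succ, v2_mul (by omega) (Nat.factorial_ne_zero _), Fintype.card_fin,
      add_mul, one_mul]
    omega
  · have hd0 : discr (minQ F k a b) ≠ 0 := by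
      rw [hd]
      exact mul_ne_zero (pow_ne_zero _ (neg_ne_zero.2 one_ne_zero)) hne
    refine omegaSqDer_of_model hF hodd (minQ F k a b) (minQ_nondeg k hab) k hk
      (![1, discr (minQ F k a b)]) (fun c => by fin_cases c <;> simp [hd0]) (by simp; ring) ?_ ?_
    · rw [Fin.prod_univ_two]
      exact ⟨2 * discr (minQ F k a b), by simp; ring⟩
    · have hmod : q ^ (k + 1) % 4 = 1 := (pow_mod_four hodd _).resolve_right fun h => by
        refine hsq ?_
        rw [hd]
        refine Bases.isSquare_mul_of_not (fun h' => ?_) hns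
        have := (isSquare_neg_one_pow_iff hF hodd _).1 h'
        omega
      rw [hcard, v2_pow_add_of_one hmod, Fintype.card_fin]
      omega

end Cfsg.Agent.SylowAb
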