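import Cfsg.Agent.Lib.Chevalley.Twist.AutExt
import Cfsg.Agent.Lib.Chevalley.Twist.CountD4
import Cfsg.Agent.Lib.SylowAb.Basic

/-!
# The fixed unipotent group of a twisted Chevalley group in characteristic two
-/

set_option autoImplicit false

open scoped Matrix

namespace Cfsg.Agent.SylowAb.TwistGen

open Cfsg.Lie Cfsg.Agent.Chevalley Cfsg.Agent.Chevalley.Table Cfsg.Agent.Chevalley.Cert
  Cfsg.Agent.Chevalley.Group Cfsg.Agent.Chevalley.Weight Cfsg.Agent.Chevalley.Unip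
  Cfsg.Agent.Chevalley.Borel Cfsg.Agent.Chevalley.Weyl Cfsg.Agent.Chevalley.Bruhat
  Cfsg.Agent.Chevalley.NormalForm Cfsg.Agent.Chevalley.WeylEnum Cfsg.Agent.Chevalley.Twist

variable {D : ChevalleyDatum} {F : Type*} [Field F] {T : Tab} {hC : Certified D T}
variable {S : Tw hC F} (O : Orbits S) {K : Subgroup (GL D.Idx F)} (hK : GenData O K)

theorem mem_Uw_invol (h2 : (2 : F) = 0) {π : ℕ → ℕ} (hπ : S.π = π)
    (hO : ∀ a < O.k, Orth hC π (O.J a)) {a : ℕ} (ha : a < O.k) {u : GL D.Idx F}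
    (hu : u ∈ Uw S (O.J a)) : u * u = 1 := by
  obtain ⟨h1, h2'⟩ := (mem_Uw (O.J_lt a ha) 1).1 hu
  obtain ⟨f, -, rfl⟩ := fixed_Uminus (hO a ha) hπ h2' h1
  rw [← opr_add (hO a ha) (Or.inl rfl) _ (orth_nodup (hO a ha)) (fun _ h => h),
    show f + f = 0 from funext fun i => by
      show f i + f i = 0
      linear_combination f i * h2, opr_zero]

include hK

theorem Uw_le (horb : ∀ a < O.k, ∀ u ∈ Uw S (O.J a), u * u ∈ ⁅Uw S (O.J a), Uw S (O.J a)⁆)
    {L : List ℕ} (hL : ∀ i ∈ L, i < D.rank) (hE : Equiv' S L) :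
    Uw S L ≤ Subgroup.closure {g | g ∈ Uw S L ∧ g * g ∈ ⁅Uw S L, Uw S L⁆} := by
  obtain ⟨n, hn⟩ : ∃ n, n = (invSet D T L).card := ⟨_, rfl⟩
  induction n using Nat.strong_induction_on generalizing L with
  | _ n ih =>
    rcases Finset.eq_empty_or_nonempty (invSet D T L) with h0 | ⟨r, hr⟩
    · rw [Uw_bot hL h0]; exact bot_le
    simp only [invSet, Finset.mem_filter, Finset.mem_range] at hr
    obtain ⟨a, ha, hneg⟩ := exists_orbit O hL hE hr.1 hr.2.1 hr.2.2
    obtain ⟨d, hd'⟩ := hK.mono a ha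
    have hJ := O.J_lt a ha
    have hLJ : ∀ i ∈ L ++ O.J a, i < D.rank := fun i hi => (List.mem_append.1 hi).elim (hL i) (hJ i)
    have hstep := invSet_card_step O hL ha hneg
    have hpos : 0 < (invSet D T (O.J a)).card := Finset.card_pos.2 (by
      obtain ⟨i, hi⟩ : ∃ i, i ∈ O.J a := List.exists_mem_of_ne_nil _ (O.ne a ha)
      exact ⟨D.simple i, Finset.mem_filter.2 ⟨Finset.mem_range.2 (hC.simple_lt (O.J_lt a ha i hi)),
        hC.phi_simple (O.J_lt a ha i hi), O.neg_simple a ha i hi⟩⟩)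
    have hrec := ih _ (by omega) hLJ (equiv_append hJ hE fun r hr => O.commute a ha r hr) rfl
    obtain ⟨m, hm⟩ : ∃ m, m = tor D d * nL hC F (O.J a) := ⟨_, rfl⟩
    have hd : m ∈ Fx S := hm ▸ hK.le hd'
    have hJL : Uminus D F (tor D d * nL hC F (O.J a)) ≤ Uminus D F (tor D 1 * nL hC F L) := by
      rw [Uminus_eq hC hJ d, Uminus_eq hC hL 1]
      refine Subgroup.closure_mono ?_
      rintro g ⟨s, t, hs, rfl⟩
      obtain ⟨h1, h3, h4⟩ := (mem_invList hC).1 hs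
      exact ⟨s, t, (mem_invList hC).2 ⟨h1, h3, hneg s h1 h3 h4⟩, rfl⟩
    have hUm : ∀ {B}, B ∈ Uw S (O.J a) → B ∈ Uw S L := fun {B} hB =>
      (mem_Uw hL 1).2 ⟨hJL ((mem_Uw hJ d).1 hB).1, hB.2⟩
    have hA : ∀ A ∈ Uw S (L ++ O.J a), m⁻¹ * A * m ∈ Uw S L := by
      intro A hA
      refine (mem_Uw hL 1).2 ⟨?_, mul_mem (mul_mem (inv_mem hd) hA.2) hd⟩
      have hmap : (Uminus D F (tor D 1 * nL hC F (L ++ O.J a))).map
          (MulAut.conj m⁻¹).toMonoidHom ≤ Uminus D F (tor D 1 * nL hC F L) := by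
        rw [Uminus_eq hC hLJ 1, Uminus_eq hC hL 1, MonoidHom.map_closure, Subgroup.closure_le]
        rintro _ ⟨_, ⟨r, t, hr, rfl⟩, rfl⟩
        have hr' : r ∈ invSet D T (L ++ O.J a) := by
          simp only [invSet, Finset.mem_filter, Finset.mem_range]
          exact (mem_invList hC).1 hr
        obtain ⟨h1, -⟩ := inv_append_fwd O hL ha hneg hr'
        have hrn : r < D.nroots := ((mem_invList hC).1 hr).1
        obtain ⟨η, hη, e⟩ := conj_xg (F := F) hC hJ d (wL_lt hC hJ hrn)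
        refine Subgroup.subset_closure ⟨wL D (O.J a) r, t / η, (mem_invList hC).2 ?_, ?_⟩
        · simpa only [invSet, Finset.mem_filter, Finset.mem_range] using h1
        · have e' := e (t / η)
          rw [O.invol a ha r hrn, mul_div_cancel₀ _ hη, ← hm] at e'
          rw [← e']
          simp [MulAut.conj_apply, mul_assoc]
      have := hmap ⟨A, hA.1, rfl⟩
      simpa [MulAut.conj_apply] using this
    have hconj : ∀ A ∈ Uw S (L ++ O.J a),
        m⁻¹ * A * m ∈ Subgroup.closure {g | g ∈ Uw S L ∧ g * g ∈ ⁅Uw S L, Uw S L⁆} := by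
      intro A hA'
      have h1 := Subgroup.mem_map_of_mem (MulAut.conj m⁻¹).toMonoidHom (hrec hA')
      rw [MonoidHom.map_closure] at h1
      have h3 : (MulAut.conj m⁻¹) A ∈
          Subgroup.closure {g | g ∈ Uw S L ∧ g * g ∈ ⁅Uw S L, Uw S L⁆} :=
        Subgroup.closure_mono ?_ h1
      · simpa [MulAut.conj_apply] using h3
      rintro _ ⟨g, ⟨hg, hgg⟩, rfl⟩
      refine ⟨by simpa [MulAut.conj_apply] using hA g hg, ?_⟩
      rw [← map_mul]
      have h4 := Subgroup.mem_map_of_mem (MulAut.conj m⁻¹).toMonoidHom hgg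
      rw [Subgroup.map_commutator] at h4
      have h5 : (Uw S (L ++ O.J a)).map (MulAut.conj m⁻¹).toMonoidHom ≤ Uw S L := by
        rintro _ ⟨g, hg, rfl⟩
        simpa [MulAut.conj_apply] using hA g hg
      exact Subgroup.commutator_mono h5 h5 h4
    intro u hu
    obtain ⟨A, B, rfl, hAF, hBF, hAU, hA', hB⟩ :=
      split_fixed O ha (hm ▸ hd) (Uminus_le_U hC _ hu.1) hu.2
    rw [← hm] at hA' hB
    have hB' : B ∈ Uw S (O.J a) := (mem_Uw hJ d).2 ⟨hm ▸ hB, hBF⟩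
    have hA1 : A ∈ Uw S L := by
      have := mul_mem hu (inv_mem (hUm hB'))
      rwa [mul_inv_cancel_right] at this
    obtain ⟨h, hh⟩ : ∃ h : ℕ → Fˣ, m * m = tor D h := by
      have hJJ : ∀ i ∈ O.J a ++ O.J a, i < D.rank := fun i hi =>
        (List.mem_append.1 hi).elim (hJ i) (hJ i)
      obtain ⟨c', hc'⟩ := nL_conj_tor (F := F) hC hJ d
      obtain ⟨e, he⟩ := exists_tor_of_pos (F := F) hC hJJ fun i hi => by
        rw [wL_append, O.invol a ha _ (hC.simple_lt hi)]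
        exact hC.phi_simple hi
      refine ⟨d * c' * e, ?_⟩
      rw [hm, ← tor_mul, ← tor_mul, ← he, nL_append,
        show tor D d * tor D c' * (nL hC F (O.J a) * nL hC F (O.J a)) =
          tor D d * (tor D c' * nL hC F (O.J a)) * nL hC F (O.J a) by group, ← hc']
      group
    obtain ⟨c, hc⟩ : ∃ c : ℕ → Fˣ,
        tor D 1 * nL hC F L * m⁻¹ = tor D c * nL hC F (L ++ O.J a) := by
      obtain ⟨c', hc'⟩ := nL_conj_tor (F := F) hC hL (h⁻¹ * d)
      refine ⟨c', ?_⟩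
      rw [nL_append, ← mul_assoc, ← hc', ← tor_mul, ← tor_inv, ← hh, hm, tor_one, one_mul]
      group
    have hA2 : m * A * m⁻¹ ∈ Uw S (L ++ O.J a) := by
      refine (mem_Uw hLJ c).2 ⟨(mem_Uminus_iff hC ((mem_N_iff hC).2 ⟨c, _, hLJ, rfl⟩)).2
        ⟨hA', ?_⟩, mul_mem (mul_mem hd hAF) (inv_mem hd)⟩
      rw [← hc]
      have := conj_Uminus hC hA1.1
      simpa [mul_assoc] using this
    refine mul_mem ?_ (Subgroup.subset_closure ⟨hUm hB',
      Subgroup.commutator_mono (fun _ => hUm) (fun _ => hUm) (horb a ha B hB')⟩)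
    have := hconj _ hA2
    simpa [mul_assoc] using this

theorem sqDer_UK (horb : ∀ a < O.k, ∀ u ∈ Uw S (O.J a), u * u ∈ ⁅Uw S (O.J a), Uw S (O.J a)⁆) :
    SqDer (UK D K) := by
  have hU : D.posUnipotent F ⊓ K = Uw S (O.top.flatMap O.J) := by
    rw [← Fx_eq O hK, U_inf_Fx_eq (O := O)]
  have h : SqDer (D.posUnipotent F ⊓ K) := by
    rw [hU]
    refine sqDer_closure (S := {g | g ∈ Uw S (O.top.flatMap O.J) ∧
      g * g ∈ ⁅Uw S (O.top.flatMap O.J), Uw S (O.top.flatMap O.J)⁆})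
      (le_antisymm (Uw_le O hK horb (flatMap_lt O O.top_lt) (equiv_flatMap O _ O.top_lt))
        ((Subgroup.closure_le _).2 fun g hg => hg.1)) fun g hg => by rw [sq]; exact hg.2
  rw [UK, ← Subgroup.inf_subgroupOf_right]
  exact sqDer_mulEquiv (Subgroup.subgroupOfEquivOfLe inf_le_right).symm h

omit hK in
theorem orb_of_orth (h2 : (2 : F) = 0) {π : ℕ → ℕ} (hπ : S.π = π)
    (hO : ∀ a < O.k, Orth hC π (O.J a)) :
    ∀ a < O.k, ∀ u ∈ Uw S (O.J a), u * u ∈ ⁅Uw S (O.J a), Uw S (O.J a)⁆ := fun a ha u hu => by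
  rw [mem_Uw_invol O h2 hπ hO ha hu]; exact one_mem _

end Cfsg.Agent.SylowAb.TwistGen
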